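import Cfsg.Agent.Lib.Sporadic.J1.Recog.Overgroup
import Cfsg.Prelude.Def_Spor_J1
import Mathlib.GroupTheory.SpecificGroups.Cyclic

/-!
# Recognition of the first Janko group by the centraliser of an involution
-/

set_option autoImplicit false
set_option maxRecDepth 8000

namespace CfsgLib.J1Recog

open Subgroup

universe u

/-- The two groups generated by the same relations are isomorphic. -/
theorem span_equiv_J1 {G : Type u} [Group G] {E : Emb G} [Finite G] {f : G} (hA : IsAmal E.j f)
    (hr : RelC E.j f ∨ RelD E.j f) : Nonempty (span E.j f ≃* Cfsg.Spor.J1) := by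
  obtain ⟨E₀, f₀, hA₀, hC₀, hD₀, htop⟩ := exists_model
  haveI := J1.isSimpleGroup
  let j : M →* G × Cfsg.Spor.J1 := E.j.prod E₀.j
  let x : G × Cfsg.Spor.J1 := (f, f₀)
  have hA' : IsAmal j x :=
    ⟨Prod.ext hA.pow_seven hA₀.pow_seven, Prod.ext hA.c_f hA₀.c_f, Prod.ext hA.f_t hA₀.f_t,
      Prod.ext hA.f_v hA₀.f_v, Prod.ext hA.f_v2 hA₀.f_v2⟩
  have hy : ∀ i l, yElem j x i l = (yElem E.j f i l, yElem E₀.j f₀ i l) := fun i l => rfl
  obtain ⟨hfin, hle⟩ : Finite (span j x) ∧ Nat.card (span j x) ≤ 175560 := by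
    rcases hr with h | h
    · exact card_le_relC hA' (show Commute _ _ from Prod.ext h.eq hC₀.eq)
    · exact card_le_relD hA' (show Commute _ _ from Prod.ext h.eq hD₀.eq)
  have hx : x ∈ span j x := mem_sup_right (mem_zpowers x)
  have hj : ∀ m, j m ∈ span j x := fun m => mem_sup_left ⟨m, rfl⟩
  have hmap₁ : (span j x).map (MonoidHom.fst G Cfsg.Spor.J1) = span E.j f := by
    rw [span, Subgroup.map_sup, MonoidHom.map_range, MonoidHom.map_zpowers]
    rfl
  have hmap₂ : (span j x).map (MonoidHom.snd G Cfsg.Spor.J1) = ⊤ := by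
    rw [span, Subgroup.map_sup, MonoidHom.map_range, MonoidHom.map_zpowers]
    exact htop
  let f₁ : span j x →* span E.j f :=
    ((MonoidHom.fst G Cfsg.Spor.J1).comp (span j x).subtype).codRestrict _ fun y => by
      rw [← hmap₁]; exact ⟨y, y.2, rfl⟩
  let f₂ : span j x →* Cfsg.Spor.J1 := (MonoidHom.snd G Cfsg.Spor.J1).comp (span j x).subtype
  have hs₁ : Function.Surjective f₁ := by
    rintro ⟨y, hy'⟩
    rw [← hmap₁] at hy'
    obtain ⟨z, hz, rfl⟩ := hy'
    exact ⟨⟨z, hz⟩, rfl⟩
  have hs₂ : Function.Surjective f₂ := by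
    intro y
    obtain ⟨z, hz, rfl⟩ : y ∈ (span j x).map (MonoidHom.snd G Cfsg.Spor.J1) := hmap₂ ▸ mem_top y
    exact ⟨⟨z, hz⟩, rfl⟩
  have hb₂ : Function.Bijective f₂ := (Nat.bijective_iff_surjective_and_card f₂).mpr
    ⟨hs₂, le_antisymm (hle.trans_eq J1.card_J1.symm) (Nat.card_le_card_of_surjective f₂ hs₂)⟩
  let g : Cfsg.Spor.J1 →* span E.j f := f₁.comp (MulEquiv.ofBijective f₂ hb₂).symm.toMonoidHom
  have hg : Function.Surjective g := hs₁.comp (MulEquiv.ofBijective f₂ hb₂).symm.surjective
  rcases (inferInstance : g.ker.Normal).eq_bot_or_eq_top with hk | hk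
  · exact ⟨(MulEquiv.ofBijective g ⟨g.ker_eq_bot_iff.mp hk, hg⟩).symm⟩
  · exfalso
    obtain ⟨z, hz⟩ := hg ⟨f, mem_sup_right (mem_zpowers f)⟩
    rw [MonoidHom.mem_ker.mp (hk ▸ mem_top z)] at hz
    exact E.f_ne_one hA (congrArg Subtype.val hz).symm

/-- The possible orders of subgroups of odd order leave no room above 1462. -/
theorem odd_divisors : ∀ d ∈ ([1463, 1995, 3135, 4389, 7315, 21945] : List ℕ), ∃ p ∈ ([7, 11, 19] : List ℕ),
    p ∣ d ∧ ∀ e < p, e ∣ p - 1 → p * e ∣ d → d / (p * e) % p ≠ 1 := by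
  decide +kernel

theorem odd_divisors_list : ∀ d ∈ Nat.divisors 21945, 1463 ≤ d →
    d ∈ ([1463, 1995, 3135, 4389, 7315, 21945] : List ℕ) := by
  decide +kernel

/-- Centralisers of elements of order 7, 11 or 19 in the model. -/
theorem card_centralizer_le_of_prime {p : ℕ} (hp : p ∈ ([7, 11, 19] : List ℕ)) {z : Cfsg.Spor.J1}
    (hz : orderOf z = p) : Nat.card (centralizer ({z} : Set Cfsg.Spor.J1)) ≤ p := by
  have key : ∀ (w : List Bool), Fact p.Prime → ¬ p ^ 2 ∣ 175560 → orderOf (J1.el w) = p →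
      Nat.card (centralizer ({J1.el w} : Set Cfsg.Spor.J1)) ≤ p →
      Nat.card (centralizer ({z} : Set Cfsg.Spor.J1)) ≤ p := by
    intro w hpp hnd hw hC
    obtain ⟨c, hc⟩ := J1.exists_conj_mem p 1 (J1.ndvd hnd) (E := zpowers (J1.el w))
      (by rw [Nat.card_zpowers, hw, pow_one]) (k := 1) (x := z) (by rw [hz, pow_one])
    have heq : zpowers (MulAut.conj c z) = zpowers (J1.el w) := by
      refine eq_of_le_of_card_ge (zpowers_le.mpr hc) ?_
      rw [Nat.card_zpowers, Nat.card_zpowers, MulEquiv.orderOf_eq, hz, hw]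
    refine le_trans (Nat.card_le_card_of_injective (fun y : centralizer ({z} : Set Cfsg.Spor.J1) =>
      (⟨MulAut.conj c y, ?_⟩ : centralizer ({J1.el w} : Set Cfsg.Spor.J1))) ?_) hC
    · rw [mem_centralizer_singleton_iff]
      obtain ⟨i, hi⟩ : J1.el w ∈ zpowers (MulAut.conj c z) := heq.symm ▸ mem_zpowers _
      rw [← hi]
      have : Commute (MulAut.conj c (y : Cfsg.Spor.J1)) (MulAut.conj c z) :=
        (show Commute (y : Cfsg.Spor.J1) z from mem_centralizer_singleton_iff.mp y.2).map (MulAut.conj c).toMonoidHom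
      exact (this.zpow_right i).eq
    · intro a b h
      exact Subtype.ext ((MulAut.conj c).injective (congrArg Subtype.val h))
  simp only [List.mem_cons, List.not_mem_nil, or_false] at hp
  rcases hp with rfl | rfl | rfl
  · exact key _ ⟨by norm_num⟩ (by norm_num) J1.orderOf_w7 J1.card_C7
  · exact key _ ⟨by norm_num⟩ (by norm_num) J1.orderOf_w11 J1.card_C11
  · exact key _ ⟨by norm_num⟩ (by norm_num) J1.orderOf_w19 J1.card_C19

/-- The model has no large subgroup of odd order. -/
theorem card_lt_of_odd (D : Subgroup Cfsg.Spor.J1) (hD : ¬ 2 ∣ Nat.card D) : Nat.card D < 1463 := by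
  by_contra hge
  push Not at hge
  have hd : Nat.card D ∣ 8 * 21945 := by
    have := card_subgroup_dvd_card D
    rwa [J1.card_J1] at this
  have hd' : Nat.card D ∣ 21945 := Nat.Coprime.dvd_of_dvd_mul_left (by
    rw [show (8 : ℕ) = 2 ^ 3 by norm_num]
    exact Nat.Coprime.pow_right 3 ((Nat.prime_two.coprime_iff_not_dvd.mpr hD).symm)) hd
  obtain ⟨p, hp, hpd, hno⟩ := odd_divisors _ (odd_divisors_list _ (Nat.mem_divisors.mpr ⟨hd', by norm_num⟩) hge)
  haveI : Fact p.Prime := ⟨by
    simp only [List.mem_cons, List.not_mem_nil, or_false] at hp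
    rcases hp with rfl | rfl | rfl <;> norm_num⟩
  obtain ⟨P⟩ : Nonempty (Sylow p D) := inferInstance
  have hP : Nat.card (P : Subgroup D) = p := by
    obtain ⟨k, hk⟩ := IsPGroup.iff_card.mp P.2
    have h1 : p ^ k ∣ 21945 := (hk ▸ card_subgroup_dvd_card _).trans hd'
    have h2 : p ^ 1 ∣ p ^ k := hk ▸ P.pow_dvd_card_of_pow_dvd_card (by rwa [pow_one])
    have hk1 : 1 ≤ k := (Nat.pow_dvd_pow_iff_le_right (Fact.out : p.Prime).one_lt).mp h2
    have hk2 : k < 2 := by
      by_contra h
      push Not at h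
      have h3 := (pow_dvd_pow p h).trans h1
      simp only [List.mem_cons, List.not_mem_nil, or_false] at hp
      rcases hp with rfl | rfl | rfl <;> norm_num at h3
    rw [hk, show k = 1 by omega, pow_one]
  haveI : IsCyclic (P : Subgroup D) := isCyclic_of_prime_card hP
  obtain ⟨x, hx⟩ := exists_prime_orderOf_dvd_card' (G := (P : Subgroup D)) p (by rw [hP])
  set N := normalizer ((P : Subgroup D) : Set D) with hN
  set C := centralizer ((P : Subgroup D) : Set D) with hC
  have hCP : C = (P : Subgroup D) := by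
    symm
    refine eq_of_le_of_card_ge (fun a ha => mem_centralizer_iff.mpr fun b hb => ?_) ?_
    · exact congrArg Subtype.val
        (IsMulCommutative.is_comm.comm (⟨b, hb⟩ : (P : Subgroup D)) ⟨a, ha⟩)
    · rw [hP]
      refine le_trans ?_ (card_centralizer_le_of_prime hp (z := ((x : D) : Cfsg.Spor.J1))
        (by rw [orderOf_coe, orderOf_coe, hx]))
      refine Nat.card_le_card_of_injective (fun a : C => ⟨((a : D) : Cfsg.Spor.J1),
        mem_centralizer_singleton_iff.mpr ?_⟩) ?_
      · exact congrArg Subtype.val (mem_centralizer_iff.mp a.2 x x.2).symm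
      · intro a b h
        exact Subtype.ext (Subtype.ext (Subtype.mk.inj h))
  have hker : Nat.card ((P : Subgroup D).normalizerMonoidHom.ker) = p := by
    rw [Subgroup.normalizerMonoidHom_ker]
    rw [Nat.card_congr (Subgroup.subgroupOfEquivOfLe (show C ≤ N from hCP.le.trans le_normalizer)).toEquiv,
      hCP, hP]
  have hrange : Nat.card (P : Subgroup D).normalizerMonoidHom.range ∣ p - 1 := by
    have h := card_subgroup_dvd_card (P : Subgroup D).normalizerMonoidHom.range
    rw [IsCyclic.card_mulAut, hP, Nat.totient_prime Fact.out] at h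
    exact h
  obtain ⟨e, he, hcard⟩ : ∃ e, e ∣ p - 1 ∧ Nat.card N = p * e := by
    refine ⟨_, hrange, ?_⟩
    exact ((P : Subgroup D).normalizerMonoidHom.ker.card_mul_index).symm.trans (by rw [hker, Subgroup.index_ker])
  have hep : e < p := by
    have := Nat.le_of_dvd (Nat.sub_pos_of_lt (Fact.out : p.Prime).one_lt) he
    have := (Fact.out : p.Prime).one_lt
    omega
  have hs : Nat.card (Sylow p D) % p = 1 :=
    Nat.mod_eq_of_modEq (card_sylow_modEq_one p D) (Fact.out : p.Prime).one_lt
  have hci := N.card_mul_index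
  rw [hcard] at hci
  refine hno e hep he ⟨N.index, hci.symm⟩ ?_
  rw [← hci, Nat.mul_div_cancel_left _ (by rw [← hcard]; exact Nat.card_pos)]
  rw [P.card_eq_index_normalizer] at hs
  exact hs

/-- The group is generated by the centraliser of an involution and the element of order 7. -/
theorem span_eq_top {G : Type u} [Group G] [Finite G] {E : Emb G} {f : G}
    (hA : IsAmal E.j f) (φ : span E.j f ≃* Cfsg.Spor.J1) : span E.j f = ⊤ := by
  classical
  cases nonempty_fintype G
  set H := span E.j f with hHdef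
  have hH : E.j.range ≤ H := le_sup_left
  have hf : f ∈ H := mem_sup_right (mem_zpowers f)
  have hHc : Nat.card H = 175560 := (Nat.card_congr φ.toEquiv).trans J1.card_J1
  by_contra hne
  have hI : Nat.card {x : G // IsConj E.t x} * 120 = Nat.card G := by
    have h := Char.card_isConj_mul_card_centralizer E.t
    rwa [E.card_centralizer] at h
  have hIH : Nat.card {x : G // IsConj E.t x ∧ x ∈ H} * 120 = Nat.card H := by
    have h := Char.card_isConj_mul_card_centralizer (E.restrict hH).t
    rw [(E.restrict hH).card_centralizer] at h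
    rw [← h]
    congr 1
    have hi : ∀ {z : H}, IsConj (E.restrict hH).t z ↔ z ≠ 1 ∧ z * z = 1 :=
      (E.restrict hH).isConj_t_iff (f := ⟨f, hf⟩) (IsAmal.restrict' E hH hA hf)
    refine Nat.card_congr
      { toFun := fun x => ⟨⟨x.1, x.2.2⟩, hi.mpr ⟨fun e => ((E.isConj_t_iff hA).mp x.2.1).1 (congrArg Subtype.val e),
          Subtype.ext ((E.isConj_t_iff hA).mp x.2.1).2⟩⟩
        invFun := fun y => ⟨y.1.1, (E.isConj_t_iff hA).mpr ⟨fun e => (hi.mp y.2).1 (Subtype.ext e),
          congrArg Subtype.val (hi.mp y.2).2⟩, y.1.2⟩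
        left_inv := fun x => rfl
        right_inv := fun y => rfl }
  set A := Finset.univ.filter fun x : G => IsConj E.t x ∧ x ∉ H with hA'
  have hAcard : A.card = (H.index - 1) * 1463 := by
    have h1 : (Finset.univ.filter fun x : G => IsConj E.t x).card =
        (Finset.univ.filter fun x : G => IsConj E.t x ∧ x ∈ H).card + A.card := by
      rw [hA', ← Finset.filter_filter, ← Finset.filter_filter, Finset.card_filter_add_card_filter_not]
    rw [Nat.card_eq_fintype_card (α := {x : G // IsConj E.t x}), Fintype.card_subtype, h1] at hI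
    rw [Nat.card_eq_fintype_card (α := {x : G // IsConj E.t x ∧ x ∈ H}), Fintype.card_subtype] at hIH
    have h2 := H.card_mul_index
    have h3 : H.index ≠ 0 := Subgroup.index_ne_zero_of_finite
    rw [hHc] at h2 hIH
    rw [← h2] at hI
    generalize H.index = i at h2 h3 hI ⊢
    omega
  have hi2 : 1 < H.index := Subgroup.one_lt_index_of_ne_top hne
  haveI : Fintype (G ⧸ H) := Fintype.ofFinite _
  set T := (Finset.univ : Finset (G ⧸ H)).erase ((1 : G) : G ⧸ H) with hT
  have hTc : T.card = H.index - 1 := by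
    rw [hT, Finset.card_erase_of_mem (Finset.mem_univ _), Finset.card_univ, ← Nat.card_eq_fintype_card]
    rfl
  have hmaps : ∀ x ∈ A, (x : G ⧸ H) ∈ T := by
    intro x hx
    rw [hA', Finset.mem_filter] at hx
    refine Finset.mem_erase.mpr ⟨fun e => hx.2.2 ?_, Finset.mem_univ _⟩
    rw [QuotientGroup.eq, mul_one] at e
    simpa using inv_mem e
  obtain ⟨q, -, hq⟩ := Finset.exists_lt_card_fiber_of_mul_lt_card_of_maps_to (n := 1462) hmaps
    (by rw [hTc, hAcard]; exact Nat.mul_lt_mul_of_pos_left (by norm_num) (by omega))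
  set F := A.filter fun x : G => (x : G ⧸ H) = q with hF
  obtain ⟨u, hu⟩ : F.Nonempty := Finset.card_pos.mp (lt_of_le_of_lt (Nat.zero_le _) hq)
  have hinF : ∀ x ∈ F, x * x = 1 ∧ x ∉ H ∧ (x : G ⧸ H) = q := by
    intro x hx
    rw [hF, Finset.mem_filter, hA', Finset.mem_filter] at hx
    exact ⟨((E.isConj_t_iff hA).mp hx.1.2.1).2, hx.1.2.2, hx.2⟩
  obtain ⟨hu2, huH, huq⟩ := hinF u hu
  have hui : u⁻¹ = u := inv_eq_of_mul_eq_one_right hu2
  set D := H ⊓ H.comap (MulAut.conj u).toMonoidHom with hD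
  have hDmem : ∀ {z : G}, z ∈ D ↔ z ∈ H ∧ u * z * u ∈ H := by
    intro z
    simp only [hD, mem_inf, mem_comap, MulEquiv.coe_toMonoidHom, MulAut.conj_apply, hui]
  have hDbig : 1463 ≤ Nat.card D := by
    refine le_trans hq ?_
    rw [← Fintype.card_coe, ← Nat.card_eq_fintype_card]
    refine Nat.card_le_card_of_injective (fun x : F => (⟨u * x.1, hDmem.mpr ?_⟩ : D)) ?_
    · obtain ⟨hx2, -, hxq⟩ := hinF x.1 x.2
      have hmem : u * x.1 ∈ H := by
        have := (QuotientGroup.eq.mp (huq.trans hxq.symm))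
        rwa [hui] at this
      refine ⟨hmem, ?_⟩
      have := inv_mem hmem
      rwa [mul_inv_rev, inv_eq_of_mul_eq_one_right hx2, hui,
        show x.1 * u = u * (u * x.1) * u by rw [← mul_assoc, hu2, one_mul]] at this
    · intro a b h
      exact Subtype.ext (mul_left_cancel (congrArg Subtype.val h))
  have hDodd : ¬ 2 ∣ Nat.card D := by
    intro h2
    haveI : Fact (Nat.Prime 2) := ⟨Nat.prime_two⟩
    obtain ⟨z, hz⟩ := exists_prime_orderOf_dvd_card' 2 h2
    rw [← orderOf_coe] at hz
    obtain ⟨hzH, hzu⟩ := hDmem.mp z.2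
    refine huH (E.mem_of_conj hA hH hf hzH (fun e => ?_) ?_ (by rwa [hui]))
    · rw [e, orderOf_one] at hz; norm_num at hz
    · rw [← pow_two, ← hz, pow_orderOf_eq_one]
  have hlt := card_lt_of_odd ((D.subgroupOf H).map φ.toMonoidHom) ?_
  · rw [card_map_of_injective φ.injective,
      Nat.card_congr (subgroupOfEquivOfLe (show D ≤ H from inf_le_left)).toEquiv] at hlt
    omega
  · rwa [card_map_of_injective φ.injective,
      Nat.card_congr (subgroupOfEquivOfLe (show D ≤ H from inf_le_left)).toEquiv]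

/-- Recognition of J1 among the groups without normal subgroups of index 2. -/
theorem recognition_of_no_index_two {G : Type u} [Group G] [Finite G]
    (h2 : ∀ N : Subgroup G, N.Normal → N.index ≠ 2) (t : G) (ht : orderOf t = 2)
    (h16 : ¬ 16 ∣ Nat.card G)
    (e : centralizer ({t} : Set G) ≃* Multiplicative (ZMod 2) × alternatingGroup (Fin 5)) :
    Cfsg.Spor.IsoJ1 G := by
  obtain ⟨E, -⟩ := exists_emb t ht h16 e
  obtain ⟨E', f, hA⟩ := E.exists_amal h2
  obtain ⟨φ⟩ := span_equiv_J1 hA (E'.relC_or_relD hA)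
  have htop := span_eq_top hA φ
  exact ⟨((MulEquiv.subgroupCongr htop).trans Subgroup.topEquiv).symm.trans φ⟩

/-- Recognition of J1 by the centraliser of an involution. -/
theorem recognition {G : Type u} [Group G] [Finite G] [IsSimpleGroup G] (t : G) (ht : orderOf t = 2)
    (h16 : ¬ 16 ∣ Nat.card G)
    (e : centralizer ({t} : Set G) ≃* Multiplicative (ZMod 2) × alternatingGroup (Fin 5)) :
    Cfsg.Spor.IsoJ1 G := by
  refine recognition_of_no_index_two (fun N hN hidx => ?_) t ht h16 e
  rcases hN.eq_bot_or_eq_top with rfl | rfl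
  · rw [Subgroup.index_bot] at hidx
    have h120 : Nat.card (centralizer ({t} : Set G)) = 120 := by
      rw [Nat.card_congr e.toEquiv, Nat.card_eq_fintype_card, card_M]
    have := Subgroup.card_le_card_group (centralizer ({t} : Set G))
    omega
  · rw [Subgroup.index_top] at hidx
    norm_num at hidx

/-- A group with a 2-central involution with this centraliser has no subgroup of order 16. -/
theorem not_sixteen_of_central {G : Type u} [Group G] [Finite G] {t : G} (S : Sylow 2 G)
    (hS : ∀ x ∈ S, x * t = t * x)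
    (e : centralizer ({t} : Set G) ≃* Multiplicative (ZMod 2) × alternatingGroup (Fin 5)) :
    ¬ 16 ∣ Nat.card G := by
  intro h16
  haveI : Fact (Nat.Prime 2) := ⟨Nat.prime_two⟩
  have h1 : 2 ^ 4 ∣ Nat.card (S : Subgroup G) := S.pow_dvd_card_of_pow_dvd_card (by simpa using h16)
  have hle : (S : Subgroup G) ≤ centralizer ({t} : Set G) := fun x hx =>
    mem_centralizer_singleton_iff.mpr (hS x hx)
  have h2 := h1.trans (card_dvd_of_le hle)
  rw [Nat.card_congr e.toEquiv, Nat.card_eq_fintype_card, card_M] at h2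
  norm_num at h2

end CfsgLib.J1Recog
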