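import Cfsg.Agent.Lib.Sporadic.J1.Recog.Order

/-!
# A small centraliser of an element of order 3 forces the order to be divisible by 25
-/

set_option autoImplicit false
set_option maxRecDepth 8000

open scoped ComplexConjugate

namespace CfsgLib.J1Recog

open Subgroup

universe u

/-- The arithmetical conditions leave only orders divisible by 25. -/
theorem order_check : ∀ d : Fin 300, ∀ i : Fin 21,
    let a : ℤ := (d.val : ℤ); let x : ℤ := (i.val : ℤ) - 10
    let P : ℤ := a * (a + 1) + x * x * (a + 1) - (x + 1) * (x + 1) * a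
    let N : ℤ := 86400 * (a * (a + 1))
    1 ≤ a → (x + 1) * (x + 1) < 121 → (a - x) % 8 = 0 → 0 < P → N % P = 0 → N / P % 840 = 0 →
      N / P % 16 ≠ 0 → N / P / 120 % 3 = 1 → 1 + a * a + (a + 1) * (a + 1) ≤ N / P → N / P % 25 = 0 := by
  decide +kernel

section Local

variable {G : Type u} [Group G] (E : Emb G) {f : G}

theorem Emb.acts_amal (h : IsAmal E.j f) : E.Acts f F0 := by
  intro k
  have h1 : ∀ k : Fin 8, sOf k = (if k.val % 2 = 1 then lt else 1) *
      (if k.val / 2 % 2 = 1 then lv else 1) * (if k.val / 4 % 2 = 1 then lv2 else 1) := fun k => rfl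
  have h2 : ∀ k : Fin 8, sOf (F0 k) = (if k.val % 2 = 1 then lv else 1) *
      (if k.val / 2 % 2 = 1 then lv2 else 1) * (if k.val / 4 % 2 = 1 then lt * lv else 1) := by
    decide +kernel
  rw [h1 k, h2 k, map_mul, map_mul, map_mul, map_mul, apply_ite E.j, apply_ite E.j, apply_ite E.j,
    apply_ite E.j, apply_ite E.j, apply_ite E.j, map_one,
    show ∀ x y z : G, f * (x * y * z) * f⁻¹ = (f * x * f⁻¹) * (f * y * f⁻¹) * (f * z * f⁻¹) from
      fun x y z => by group]
  congr 1
  · congr 1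
    · split_ifs
      · exact h.f_t
      · group
    · split_ifs
      · exact h.f_v
      · group
  · split_ifs
    · exact h.f_v2
    · group

theorem Emb.f_ne_one (h : IsAmal E.j f) : f ≠ 1 := by
  rintro rfl
  exact (show lt ≠ lv by decide +kernel) (E.inj (by simpa using h.f_t))

variable [Finite G]

theorem Emb.isConj_t_iff (h : IsAmal E.j f) {z : G} : IsConj E.t z ↔ z ≠ 1 ∧ z * z = 1 := by
  constructor
  · intro hc
    obtain ⟨g, rfl⟩ := isConj_iff.mp hc
    refine ⟨fun e => E.t_ne_one ?_, ?_⟩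
    · rw [mul_inv_eq_one] at e
      exact mul_eq_left.mp e
    · rw [show g * E.t * g⁻¹ * (g * E.t * g⁻¹) = g * (E.t * E.t) * g⁻¹ by group, E.t_mul_self]
      group
  · rintro ⟨hz1, hz⟩
    haveI : Fact (Nat.Prime 2) := ⟨Nat.prime_two⟩
    obtain ⟨P, hP⟩ := E.exists_sylow
    obtain ⟨Q, hQ⟩ := (IsPGroup.of_card (p := 2) (n := 1) (G := zpowers z) (by
      rw [Nat.card_zpowers, pow_one, orderOf_eq_prime (by rw [pow_two, hz]) hz1])).exists_le_sylow
    obtain ⟨g, hg⟩ := MulAction.exists_smul_eq G Q P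
    have hmem : g * z * g⁻¹ ∈ E.sylow := by
      rw [← hP, ← hg, Sylow.coe_subgroup_smul, mem_pointwise_smul_iff_inv_smul_mem]
      simpa [MulAut.conj_inv_apply, mul_assoc] using hQ (mem_zpowers z)
    obtain ⟨k, hk⟩ := hmem
    simp only at hk
    have hk0 : k ≠ 0 := fun e => by
      rw [e, sOf_zero, map_one] at hk
      exact hz1 (mul_eq_left.mp (mul_inv_eq_one.mp hk.symm))
    obtain ⟨i, hi⟩ := F0_orbit k hk0
    have hh := (E.acts_amal h).pow E i.val 1
    rw [hi, hk, sOf_one] at hh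
    refine isConj_iff.mpr ⟨g⁻¹ * f ^ i.val, ?_⟩
    calc g⁻¹ * f ^ i.val * E.t * (g⁻¹ * f ^ i.val)⁻¹ = g⁻¹ * (f ^ i.val * E.t * (f ^ i.val)⁻¹) * g := by group
      _ = g⁻¹ * (g * z * g⁻¹) * g := by rw [← hh]; rfl
      _ = z := by group

theorem Emb.normalizer_card [DecidableEq G] (hs : E.SmallC) :
    Nat.card (normalizer (zpowers (E.j lc) : Set G)) = 12 := by
  have h : ∀ x : G, x ∈ normalizer (zpowers (E.j lc) : Set G) ↔ x ∈ E.normG := by
    intro x
    rw [E.mem_normG]
    constructor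
    · intro hx
      apply hs.norm E
      have h3 : orderOf (E.j lc) = 3 := by
        rw [orderOf_injective _ E.inj, orderOf_eq_prime (p := 3) (by decide +kernel) (by decide +kernel)]
      have hm := (mem_normalizer_iff.mp hx _).mp (mem_zpowers (E.j lc))
      rw [mem_zpowers_iff_mem_range_orderOf, h3] at hm
      obtain ⟨k, hk, hke⟩ := Finset.mem_image.mp hm
      rw [Finset.mem_range] at hk
      interval_cases k
      · exfalso
        rw [pow_zero, eq_comm, mul_inv_eq_one, mul_eq_left] at hke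
        rw [hke, orderOf_one] at h3
        norm_num at h3
      · left; rw [← hke, pow_one]
      · right
        rw [← hke, ← map_pow, ← map_inv, show lc ^ 2 = lc⁻¹ by decide +kernel]
    · rintro ⟨m, hm, rfl⟩
      rw [mem_normalizer_iff]
      have hc : sixHom (1, Multiplicative.ofAdd 1) = lc := by decide +kernel
      have hc' : sixHom (1, Multiplicative.ofAdd 1)⁻¹ = lc⁻¹ := by decide +kernel
      have hinv : ∀ m : M, normC (code m) = true → normC (code m⁻¹) = true := by decide +kernel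
      have h2' : ∀ m : M, normC (code m) = true → ∀ z : ℤ,
          (E.j m)⁻¹ * E.j lc ^ z * E.j m ∈ zpowers (E.j lc) := by
        intro m hm z
        have h1 := six_conj m hm (1, Multiplicative.ofAdd 1)
        rw [hc, hc'] at h1
        have e : (E.j m)⁻¹ * E.j lc ^ z * E.j m = E.j ((m⁻¹ * lc * m) ^ z) := by
          rw [show (E.j m)⁻¹ * E.j lc ^ z * E.j m = (E.j m)⁻¹ * E.j lc ^ z * (E.j m)⁻¹⁻¹ by group,
            ← conj_zpow, inv_inv, map_zpow, map_mul, map_mul, map_inv]
        rcases h1 with h1 | h1 <;> rw [e, h1, map_zpow]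
        · exact ⟨z, rfl⟩
        · rw [map_inv]; exact ⟨-z, by simp⟩
      have h2 := h2' m hm
      have h4 : ∀ z : ℤ, E.j m * E.j lc ^ z * (E.j m)⁻¹ ∈ zpowers (E.j lc) := fun z => by
        simpa using h2' m⁻¹ (hinv m hm) z
      intro y
      constructor
      · rintro ⟨z, rfl⟩
        exact h4 z
      · rintro ⟨z, hz⟩
        have := h2 z
        rwa [show E.j lc ^ z = E.j m * y * (E.j m)⁻¹ from hz,
          show (E.j m)⁻¹ * (E.j m * y * (E.j m)⁻¹) * E.j m = y by group] at this
  rw [Nat.card_congr (Equiv.subtypeEquivRight h), Nat.card_eq_fintype_card, Fintype.card_coe, E.card_normG]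

/-- The arithmetical conditions on the order. -/
theorem Emb.order_conditions (hs : E.SmallC) (h : IsAmal E.j f) :
    840 ∣ Nat.card G ∧ Nat.card G / 120 % 3 = 1 := by
  classical
  cases nonempty_fintype G
  have h120 : 120 ∣ Nat.card G := E.card_centralizer ▸ card_subgroup_dvd_card _
  have h7 : 7 ∣ Nat.card G := by
    haveI : Fact (Nat.Prime 7) := ⟨by norm_num⟩
    rw [← orderOf_eq_prime h.pow_seven (E.f_ne_one h)]
    exact orderOf_dvd_natCard f
  refine ⟨?_, ?_⟩
  · exact Nat.Coprime.mul_dvd_of_dvd_of_dvd (show Nat.Coprime 120 7 by norm_num) h120 h7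
  haveI : Fact (Nat.Prime 3) := ⟨Nat.prime_three⟩
  have hc3 : orderOf (E.j lc) = 3 := by
    rw [orderOf_injective _ E.inj, orderOf_eq_prime (p := 3) (by decide +kernel) (by decide +kernel)]
  have h9 : ¬ 3 ^ 2 ∣ Nat.card G := fun h9 => by
    have h1 := sq_dvd_card_centralizer hc3 h9
    have h2 : centralizer ({E.j lc} : Set G) ≤ E.six.range := fun x hx =>
      hs x (mem_centralizer_singleton_iff.mp hx)
    have h3 := h1.trans (card_dvd_of_le h2)
    rw [E.card_six] at h3
    norm_num at h3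
  obtain ⟨P, hP⟩ := (IsPGroup.of_card (p := 3) (n := 1) (G := zpowers (E.j lc))
    (by rw [Nat.card_zpowers, hc3, pow_one])).exists_le_sylow
  have hPe : zpowers (E.j lc) = (P : Subgroup G) := by
    refine eq_of_le_of_card_ge hP ?_
    obtain ⟨k, hk⟩ := IsPGroup.iff_card.mp P.isPGroup'
    rw [Nat.card_zpowers, hc3, hk]
    rcases Nat.lt_or_ge k 2 with hk2 | hk2
    · calc 3 ^ k ≤ 3 ^ 1 := Nat.pow_le_pow_right (by norm_num) (by omega)
        _ = 3 := by norm_num
    · exact absurd ((pow_dvd_pow 3 hk2).trans (hk ▸ card_subgroup_dvd_card _)) h9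
  have hn3 : Nat.card (Sylow 3 G) % 3 = 1 := card_sylow_modEq_one 3 G
  have hidx := (normalizer ((P : Subgroup G) : Set G)).card_mul_index
  rw [show normalizer ((P : Subgroup G) : Set G) = normalizer (zpowers (E.j lc) : Set G) by rw [hPe],
    E.normalizer_card hs] at hidx
  rw [P.card_eq_index_normalizer] at hn3
  have hn3' : (normalizer (zpowers (E.j lc) : Set G)).index % 3 = 1 := by rw [hPe]; exact hn3
  obtain ⟨m, hm⟩ := h120
  omega

end Local

section Char

variable {G : Type u} [Group G] [Fintype G] (E : Emb G) {f : G}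

theorem Emb.exists_int_values (h : IsAmal E.j f) {χ : G → ℂ} (hχ : Cfsg.IsIrrCharacter G χ) :
    ∃ τ d : ℤ, χ E.t = τ ∧ χ 1 = d ∧ 1 ≤ d ∧ (d - τ) % 8 = 0 ∧ τ * τ < 121 := by
  classical
  obtain ⟨d, hd, hd1⟩ := Char.IsIrrCharacter.exists_degree hχ
  obtain ⟨τ, hτ⟩ : ∃ τ : ℤ, χ E.t = τ := by
    obtain ⟨n, ρ, -, rfl⟩ := hχ
    obtain ⟨μ, hμ, -, -, hp⟩ := Char.exists_eigenvalues ρ E.t
    have h1 := hp 1
    rw [pow_one] at h1
    rw [h1]
    have hμ1 : ∀ i, ∃ z : ℤ, μ i = z := fun i => by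
      have h2 := hμ i
      rw [orderOf_eq_prime (by rw [pow_two, E.t_mul_self]) E.t_ne_one] at h2
      rcases sq_eq_one_iff.mp h2 with e | e
      · exact ⟨1, by simp [e]⟩
      · exact ⟨-1, by simp [e]⟩
    choose z hz using hμ1
    exact ⟨∑ i, z i, by simp [hz]⟩
  refine ⟨τ, d, hτ, by exact_mod_cast hd1, by exact_mod_cast hd, ?_, ?_⟩
  · obtain ⟨n, hn⟩ := Char.IsCharacter.exists_nat_classInner
      (Char.IsCharacter.restrict (Char.IsIrrCharacter.isCharacter hχ) E.sylow)
      (Char.isIrrCharacter_principal (G := E.sylow))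
    rw [Cfsg.classInner, E.card_sylow] at hn
    simp only [map_one, mul_one] at hn
    have hval : ∀ z : E.sylow, χ (z : G) = if z = 1 then (d : ℂ) else τ := by
      intro z
      split_ifs with hz
      · rw [hz]; exact hd1
      · rw [← hτ]
        exact (Char.IsClassFunction.eq_of_isConj (Char.IsIrrCharacter.isClassFunction hχ)
          ((E.isConj_t_iff h).mpr ⟨fun e => hz (Subtype.ext e), E.sq_eq_one_of_mem z.2⟩)).symm
    have hc : Fintype.card E.sylow = 8 := by rw [← Nat.card_eq_fintype_card, E.card_sylow]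
    rw [Finset.sum_congr rfl fun z _ => hval z, Finset.sum_ite, Finset.sum_const, Finset.sum_const,
      Finset.filter_eq' Finset.univ (1 : E.sylow), if_pos (Finset.mem_univ _), Finset.card_singleton,
      Finset.filter_ne' Finset.univ (1 : E.sylow), Finset.card_erase_of_mem (Finset.mem_univ _),
      Finset.card_univ, hc] at hn
    have h8 : (d : ℤ) + 7 * τ = 8 * n := by
      have : ((d : ℤ) + 7 * τ : ℂ) = ((8 * n : ℤ) : ℂ) := by
        push_cast
        linear_combination (norm := (simp; ring)) 8 * hn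
      exact_mod_cast this
    omega
  · have hs := Char.sum_mul_conj E.t E.t
    rw [if_pos (IsConj.refl _), E.card_centralizer] at hs
    have hint : ∀ ψ : Cfsg.IrrCharacter G, ∃ a : ℝ, 0 ≤ a ∧
        (ψ : G → ℂ) E.t * conj ((ψ : G → ℂ) E.t) = (a : ℂ) := fun ψ =>
      ⟨Complex.normSq ((ψ : G → ℂ) E.t), Complex.normSq_nonneg _, by rw [Complex.mul_conj]⟩
    choose a ha0 ha using hint
    rw [Finset.sum_congr rfl fun ψ _ => ha ψ, ← Complex.ofReal_sum] at hs
    have hsum : ∑ ψ, a ψ = 120 := by exact_mod_cast hs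
    have hle : a ⟨χ, hχ⟩ ≤ 120 := hsum ▸ Finset.single_le_sum (fun ψ _ => ha0 ψ) (Finset.mem_univ _)
    have hae : a ⟨χ, hχ⟩ = ((τ * τ : ℤ) : ℝ) := by
      have := ha ⟨χ, hχ⟩
      simp only [hτ, map_intCast] at this
      exact_mod_cast this.symm
    rw [hae] at hle
    have : τ * τ ≤ 120 := by exact_mod_cast hle
    omega

theorem Emb.card_refl (h : IsAmal E.j f) (hs : E.SmallC) {g : Six} (hg : g.2 ≠ 1) [DecidableEq G]
    [DecidablePred (IsConj E.t)] :
    (((Finset.univ.filter (IsConj E.t)) ×ˢ (Finset.univ.filter (IsConj E.t))).filter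
      fun p => p.1 * p.2 = E.six g).card = 6 := by
  classical
  obtain ⟨hr, hs2⟩ := card_reflSet g hg
  rw [← hr]
  refine Finset.card_bij' (fun p hp => ?_) (fun m _ => (E.j m, (E.j m)⁻¹ * E.six g)) ?_ ?_ ?_ ?_
  · exact Function.invFun E.j p.1
  all_goals simp only [Finset.mem_filter, Finset.mem_product, Finset.mem_univ, true_and, reflSet,
    E.isConj_t_iff h]
  · rintro ⟨a, b⟩ ⟨⟨⟨ha1, ha⟩, hb1, hb⟩, hab⟩
    simp only at ha1 ha hb1 hb hab ⊢
    obtain ⟨m, hm⟩ : ∃ m, E.j m = a := by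
      have hinv : a * E.six g * a⁻¹ = (E.six g)⁻¹ := by
        rw [← hab, mul_inv_rev, inv_eq_of_mul_eq_one_right ha, inv_eq_of_mul_eq_one_right hb,
          ← mul_assoc, ha, one_mul]
      have hinv4 : a * E.six g ^ 4 * a⁻¹ = (E.six g ^ 4)⁻¹ := by rw [← conj_pow, hinv, inv_pow]
      have hcase : a * E.j lc * a⁻¹ = (E.j lc)⁻¹ := by
        rcases E.six_pow_four hg with e | e <;> rw [e] at hinv4
        · exact hinv4
        · rw [inv_inv] at hinv4
          calc a * E.j lc * a⁻¹ = (a * (E.j lc)⁻¹ * a⁻¹)⁻¹ := by group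
            _ = (E.j lc)⁻¹ := by rw [hinv4]
      obtain ⟨m, -, hm⟩ := hs.norm E (Or.inr hcase)
      exact ⟨m, hm⟩
    subst hm
    rw [Function.leftInverse_invFun E.inj m]
    refine ⟨E.inj (by rw [map_mul, map_one]; exact ha), E.inj ?_⟩
    rw [map_mul, map_mul, map_inv, map_inv]
    show E.j m * E.six g * (E.j m)⁻¹ = (E.six g)⁻¹
    rw [← hab, mul_inv_rev, inv_eq_of_mul_eq_one_right ha, inv_eq_of_mul_eq_one_right hb,
      ← mul_assoc, ha, one_mul]
  · intro m hm
    obtain ⟨hm2, hm3⟩ := hm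
    have hm1 : m ≠ 1 := fun e => hs2 (by
      rw [e, one_mul, inv_one, mul_one] at hm3
      exact mul_eq_one_iff_eq_inv.mpr hm3)
    refine ⟨⟨⟨fun e => hm1 (E.inj (e.trans (map_one E.j).symm)), by rw [← map_mul, hm2, map_one]⟩,
      fun e => ?_, ?_⟩, mul_inv_cancel_left _ _⟩
    · have he : sixHom g = m := E.inj (inv_mul_eq_one.mp e).symm
      exact hs2 (by rw [he]; exact hm2)
    · show (E.j m)⁻¹ * E.j (sixHom g) * ((E.j m)⁻¹ * E.j (sixHom g)) = 1
      rw [← map_inv, ← map_mul, ← map_mul, ← map_one E.j]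
      congr 1
      rw [inv_eq_of_mul_eq_one_right hm2, ← mul_assoc,
        show m * sixHom g * m = m * sixHom g * m⁻¹ by rw [inv_eq_of_mul_eq_one_right hm2], hm3, inv_mul_cancel]
  · rintro ⟨a, b⟩ ⟨⟨⟨ha1, ha⟩, hb1, hb⟩, hab⟩
    simp only at ha1 ha hb1 hb hab ⊢
    obtain ⟨m, hm⟩ : ∃ m, E.j m = a := by
      have hinv : a * E.six g * a⁻¹ = (E.six g)⁻¹ := by
        rw [← hab, mul_inv_rev, inv_eq_of_mul_eq_one_right ha, inv_eq_of_mul_eq_one_right hb,
          ← mul_assoc, ha, one_mul]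
      have hinv4 : a * E.six g ^ 4 * a⁻¹ = (E.six g ^ 4)⁻¹ := by rw [← conj_pow, hinv, inv_pow]
      have hcase : a * E.j lc * a⁻¹ = (E.j lc)⁻¹ := by
        rcases E.six_pow_four hg with e | e <;> rw [e] at hinv4
        · exact hinv4
        · rw [inv_inv] at hinv4
          calc a * E.j lc * a⁻¹ = (a * (E.j lc)⁻¹ * a⁻¹)⁻¹ := by group
            _ = (E.j lc)⁻¹ := by rw [hinv4]
      obtain ⟨m, -, hm⟩ := hs.norm E (Or.inr hcase)
      exact ⟨m, hm⟩
    subst hm
    rw [Function.leftInverse_invFun E.inj m, ← hab, inv_mul_cancel_left]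
  · intro m _
    exact Function.leftInverse_invFun E.inj m

/-- The equation coming from the class multiplication coefficient. -/
theorem Emb.class_equation (h : IsAmal E.j f) (hs : E.SmallC) :
    (Nat.card G : ℂ) * ∑ χ : Cfsg.IrrCharacter G, Cfsg.classInner E.theta χ *
      ((χ : G → ℂ) E.t * (χ : G → ℂ) E.t / (χ : G → ℂ) 1) = 86400 := by
  classical
  set A := Finset.univ.filter (IsConj E.t) with hA
  have hAn : (A.card : ℂ) * 120 = Nat.card G := by
    have h1 := Char.card_isConj_mul_card_centralizer E.t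
    rw [E.card_centralizer, Nat.card_eq_fintype_card (α := {x : G // IsConj E.t x}), Fintype.card_subtype] at h1
    exact_mod_cast h1
  have hg : ∀ g : Six, phi g * 6 = phi g * ((A.card : ℂ) * A.card / Nat.card G *
      ∑ χ : Cfsg.IrrCharacter G, (χ : G → ℂ) E.t * (χ : G → ℂ) E.t * conj ((χ : G → ℂ) (E.six g)) /
        (χ : G → ℂ) 1) := by
    intro g
    by_cases hg : g.2 = 1
    · rw [phi_eq_zero (by simpa [IsThree] using hg), zero_mul, zero_mul]
    · rw [← CharDeep.ClassSum.card_pairs E.t E.t (E.six g), E.card_refl h hs hg]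
      norm_num
  have hsum := Finset.sum_congr (s₁ := (Finset.univ : Finset Six)) rfl fun g _ => hg g
  rw [← Finset.sum_mul, sum_phi] at hsum
  have hstep : ∑ g : Six, phi g * ((A.card : ℂ) * A.card / Nat.card G *
      ∑ χ : Cfsg.IrrCharacter G, (χ : G → ℂ) E.t * (χ : G → ℂ) E.t * conj ((χ : G → ℂ) (E.six g)) /
        (χ : G → ℂ) 1) = 6 * ((A.card : ℂ) * A.card / Nat.card G) *
      ∑ χ : Cfsg.IrrCharacter G, Cfsg.classInner E.theta χ *
        ((χ : G → ℂ) E.t * (χ : G → ℂ) E.t / (χ : G → ℂ) 1) := by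
    have hi : ∀ χ : Cfsg.IrrCharacter G, Cfsg.classInner E.theta χ =
        (6 : ℂ)⁻¹ * ∑ g : Six, phi g * conj ((χ : G → ℂ) (E.six g)) :=
      fun χ => E.inner_theta _ (Char.IsIrrCharacter.isClassFunction χ.2)
    simp only [hi, Finset.mul_sum, Finset.sum_mul]
    rw [Finset.sum_comm]
    refine Finset.sum_congr rfl fun χ _ => Finset.sum_congr rfl fun g _ => ?_
    ring
  rw [hstep] at hsum
  have hn : (Nat.card G : ℂ) ≠ 0 := Nat.cast_ne_zero.mpr Nat.card_pos.ne'
  have hAeq : (A.card : ℂ) = Nat.card G / 120 := by rw [← hAn]; ring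
  rw [hAeq] at hsum
  generalize ∑ χ : Cfsg.IrrCharacter G, Cfsg.classInner E.theta χ *
      ((χ : G → ℂ) E.t * (χ : G → ℂ) E.t / (χ : G → ℂ) 1) = S at hsum ⊢
  field_simp at hsum
  linear_combination -hsum

/-- The three constituents of `Θ`. -/
theorem Emb.constituents (hs : E.SmallC) : ∃ (a b : G → ℂ), Cfsg.IsIrrCharacter G a ∧
    Cfsg.IsIrrCharacter G b ∧ a ≠ b ∧ a ≠ (fun _ => 1) ∧ b ≠ (fun _ => 1) ∧
      ∀ F : Cfsg.IrrCharacter G → ℂ, ∀ ha hb,
        ∑ χ : Cfsg.IrrCharacter G, Cfsg.classInner E.theta (χ : G → ℂ) * F χ =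
        F ⟨fun _ => 1, Char.isIrrCharacter_principal⟩ + F ⟨a, ha⟩ - F ⟨b, hb⟩ := by
  classical
  choose c hc using fun χ : Cfsg.IrrCharacter G => CharExc.exists_int_classInner E.isGeneralized_theta χ.2
  have hcl : Cfsg.IsClassFunction G E.theta := Char.IsGeneralizedCharacter.isClassFunction E.isGeneralized_theta
  have hnorm : ∑ χ, c χ * c χ = 3 := by
    have h2 := E.norm_theta hs
    rw [Char.classInner_eq_sum hcl hcl] at h2
    simp only [hc, map_intCast] at h2
    exact_mod_cast h2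
  set e : Cfsg.IrrCharacter G := ⟨fun _ => 1, Char.isIrrCharacter_principal⟩ with he
  have hce : c e = 1 := by
    have := hc e
    rw [E.inner_theta_one] at this
    exact_mod_cast this.symm
  have hdeg : ∑ χ : Cfsg.IrrCharacter G, (c χ : ℂ) * (χ : G → ℂ) 1 = 0 := by
    have h1 := congrFun (Char.IsClassFunction.eq_sum_classInner hcl) 1
    simp only [hc, Finset.sum_apply, Pi.smul_apply, smul_eq_mul, E.theta_apply_one] at h1
    exact h1.symm
  set S := (Finset.univ.erase e).filter fun χ => c χ ≠ 0 with hS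
  have hsumS : ∑ χ ∈ S, c χ * c χ = 2 := by
    rw [hS, Finset.sum_filter_of_ne (p := fun χ => c χ ≠ 0) fun χ _ h (h0 : c χ = 0) => h (by simp [h0]),
      Finset.sum_erase_eq_sub (Finset.mem_univ e), hnorm, hce]
    norm_num
  have hle : ∀ χ ∈ S, 1 ≤ c χ * c χ := fun χ hχ => by
    have h0 := (Finset.mem_filter.mp hχ).2
    rcases lt_or_gt_of_ne h0 with h | h <;> nlinarith
  have hcard : S.card ≤ 2 := by
    have := Finset.card_nsmul_le_sum S _ 1 hle
    rw [hsumS] at this
    simp at this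
    exact_mod_cast this
  have hall : ∀ F : Cfsg.IrrCharacter G → ℂ,
      ∑ χ : Cfsg.IrrCharacter G, Cfsg.classInner E.theta (χ : G → ℂ) * F χ = F e + ∑ χ ∈ S, (c χ : ℂ) * F χ := by
    intro F
    rw [← Finset.add_sum_erase _ _ (Finset.mem_univ e), hc e, hce, Int.cast_one, one_mul, hS,
      Finset.sum_filter_of_ne (p := fun χ => c χ ≠ 0) fun χ _ h (h0 : c χ = 0) => h (by simp [h0])]
    simp only [hc]
  interval_cases hk : S.card
  · simp [Finset.card_eq_zero.mp hk] at hsumS
  · obtain ⟨χ, hχ⟩ := Finset.card_eq_one.mp hk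
    rw [hχ, Finset.sum_singleton] at hsumS
    have hb : -2 < c χ ∧ c χ < 2 := by constructor <;> nlinarith
    obtain ⟨hb1, hb2⟩ := hb
    interval_cases hcχ : c χ <;> simp at hsumS
  · obtain ⟨χ, ψ, hne, hS'⟩ := Finset.card_eq_two.mp hk
    rw [hS', Finset.sum_pair hne] at hsumS
    have hχS : χ ∈ S := by simp [hS']
    have hψS : ψ ∈ S := by simp [hS']
    have e1 : c χ * c χ = 1 := by have := hle χ hχS; have := hle ψ hψS; linarith
    have e2 : c ψ * c ψ = 1 := by have := hle χ hχS; have := hle ψ hψS; linarith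
    obtain ⟨d, hd, hχd⟩ := Char.IsIrrCharacter.exists_degree χ.2
    obtain ⟨d', hd', hψd⟩ := Char.IsIrrCharacter.exists_degree ψ.2
    have hdeg' : 1 + c χ * d + c ψ * d' = 0 := by
      have h1 := hall fun χ => (χ : G → ℂ) 1
      simp only [hc] at h1
      rw [hdeg, hS', Finset.sum_pair hne, hχd, hψd] at h1
      have h2 : ((1 + c χ * d + c ψ * d' : ℤ) : ℂ) = 0 := by
        push_cast
        linear_combination -h1
      exact_mod_cast h2
    have hχe : (χ : G → ℂ) ≠ fun _ => 1 := fun h =>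
      (Finset.mem_erase.mp (Finset.mem_filter.mp hχS).1).1 (Subtype.ext h)
    have hψe : (ψ : G → ℂ) ≠ fun _ => 1 := fun h =>
      (Finset.mem_erase.mp (Finset.mem_filter.mp hψS).1).1 (Subtype.ext h)
    rcases mul_self_eq_one_iff.mp e1 with hx | hx <;>
      rcases mul_self_eq_one_iff.mp e2 with hy | hy
    · exfalso; rw [hx, hy] at hdeg'; omega
    · refine ⟨χ, ψ, χ.2, ψ.2, fun h => hne (Subtype.ext h), hχe, hψe, fun F ha hb => ?_⟩
      rw [hall, hS', Finset.sum_pair hne, hx, hy]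
      push_cast
      ring
    · refine ⟨ψ, χ, ψ.2, χ.2, fun h => hne (Subtype.ext h).symm, hψe, hχe, fun F ha hb => ?_⟩
      rw [hall, hS', Finset.sum_pair hne, hx, hy]
      push_cast
      ring
    · exfalso; rw [hx, hy] at hdeg'; omega

/-- A centraliser of order 6 of `c` forces the order to be divisible by 25. -/
theorem Emb.five_sq_dvd (h : IsAmal E.j f) (hs : E.SmallC) : 25 ∣ Nat.card G := by
  classical
  obtain ⟨a, b, ha, hb, hab, ha1, hb1, hsum⟩ := E.constituents hs
  obtain ⟨x, d, hx, hd, hd1, h8, hx2⟩ := E.exists_int_values h ha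
  obtain ⟨y, d', hy, hd', -, -, hy2⟩ := E.exists_int_values h hb
  set e : Cfsg.IrrCharacter G := ⟨fun _ => 1, Char.isIrrCharacter_principal⟩ with he
  have hcl : Cfsg.IsClassFunction G E.theta := Char.IsGeneralizedCharacter.isClassFunction E.isGeneralized_theta
  have hexp : ∀ z, E.theta z = 1 + a z - b z := by
    intro z
    have h1 := congrFun (Char.IsClassFunction.eq_sum_classInner hcl) z
    simp only [Finset.sum_apply, Pi.smul_apply, smul_eq_mul] at h1
    rw [h1, hsum (fun χ => (χ : G → ℂ) z) ha hb]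
  have hdd : d' = d + 1 := by
    have h1 := hexp 1
    rw [E.theta_apply_one, hd, hd'] at h1
    have h2 : ((d' : ℤ) : ℂ) = ((d + 1 : ℤ) : ℂ) := by push_cast; linear_combination h1
    exact_mod_cast h2
  have hyx : y = x + 1 := by
    have h1 := hexp E.t
    rw [E.theta_t hs, hx, hy] at h1
    have h2 : ((y : ℤ) : ℂ) = ((x + 1 : ℤ) : ℂ) := by push_cast; linear_combination h1
    exact_mod_cast h2
  subst hdd hyx
  obtain ⟨h840, hm⟩ := E.order_conditions hs h
  set n : ℤ := (Nat.card G : ℤ) with hn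
  have heq : n * (d * (d + 1) + x * x * (d + 1) - (x + 1) * (x + 1) * d) = 86400 * (d * (d + 1)) := by
    have h1 := E.class_equation h hs
    rw [hsum (fun χ => (χ : G → ℂ) E.t * (χ : G → ℂ) E.t / (χ : G → ℂ) 1) ha hb] at h1
    simp only [hx, hy, hd, hd', div_one, mul_one] at h1
    have hd0 : (d : ℂ) ≠ 0 := by exact_mod_cast (show d ≠ 0 by omega)
    have hd0' : (d : ℂ) + 1 ≠ 0 := by exact_mod_cast (show d + 1 ≠ 0 by omega)
    push_cast at h1
    field_simp at h1
    have h2 : ((n * (d * (d + 1) + x * x * (d + 1) - (x + 1) * (x + 1) * d) : ℤ) : ℂ) =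
        ((86400 * (d * (d + 1)) : ℤ) : ℂ) := by
      rw [hn]
      push_cast
      linear_combination h1
    exact_mod_cast h2
  have hsq : 1 + d * d + (d + 1) * (d + 1) ≤ n := by
    have hs2 := Char.sum_degree_sq (G := G)
    have hsub : ({e, ⟨a, ha⟩, ⟨b, hb⟩} : Finset (Cfsg.IrrCharacter G)) ⊆ Finset.univ := Finset.subset_univ _
    have h3 := Finset.sum_le_sum_of_subset (f := fun χ : Cfsg.IrrCharacter G => Char.degree (χ : G → ℂ) ^ 2) hsub
    rw [hs2, Finset.sum_insert (by
        simp only [Finset.mem_insert, Finset.mem_singleton, not_or]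
        exact ⟨fun e' => ha1 (congrArg Subtype.val e').symm, fun e' => hb1 (congrArg Subtype.val e').symm⟩),
      Finset.sum_pair (fun e' => hab (congrArg Subtype.val e'))] at h3
    have k1 : (Char.degree (fun _ : G => (1 : ℂ)) : ℤ) = 1 := by
      have := Char.IsCharacter.degree_cast (Char.IsIrrCharacter.isCharacter (Char.isIrrCharacter_principal (G := G)))
      exact_mod_cast this
    have k2 : (Char.degree a : ℤ) = d := by
      have := (Char.IsCharacter.degree_cast (Char.IsIrrCharacter.isCharacter ha)).trans hd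
      exact_mod_cast this
    have k3 : (Char.degree b : ℤ) = d + 1 := by
      have := (Char.IsCharacter.degree_cast (Char.IsIrrCharacter.isCharacter hb)).trans hd'
      exact_mod_cast this
    have h4 : ((Char.degree (fun _ : G => (1 : ℂ)) ^ 2 + (Char.degree a ^ 2 + Char.degree b ^ 2) : ℕ) : ℤ) ≤ n := by
      rw [hn]; exact_mod_cast h3
    push_cast at h4
    rw [k1, k2, k3] at h4
    linarith
  have hx10 : -10 ≤ x ∧ x ≤ 10 := ⟨by nlinarith, by nlinarith⟩
  have hPpos : 0 < d * (d + 1) + x * x * (d + 1) - (x + 1) * (x + 1) * d := by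
    have hn0 : 0 < n := by rw [hn]; exact_mod_cast Nat.card_pos
    by_contra hle
    push Not at hle
    nlinarith [mul_nonpos_of_nonneg_of_nonpos hn0.le hle]
  have hd300 : d < 300 := by
    by_contra hge
    push Not at hge
    have hP2 : d * (d + 1) - 21 * d ≤ d * (d + 1) + x * x * (d + 1) - (x + 1) * (x + 1) * d := by
      nlinarith [mul_nonneg (show (0 : ℤ) ≤ d by omega) (show (0 : ℤ) ≤ 10 - x by omega), mul_self_nonneg x]
    have h5 : (2 * d * d) * (d * (d + 1) - 21 * d) ≤ 86400 * (d * (d + 1)) := by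
      rw [← heq]
      exact mul_le_mul (by nlinarith) hP2 (by nlinarith) (by nlinarith)
    nlinarith [mul_le_mul_of_nonneg_left hge (show (0 : ℤ) ≤ d by omega)]
  obtain ⟨k, hk⟩ : ∃ k : Fin 21, (k.val : ℤ) - 10 = x :=
    ⟨⟨(x + 10).toNat, by omega⟩, by simp only; omega⟩
  obtain ⟨l, hl⟩ : ∃ l : Fin 300, (l.val : ℤ) = d := ⟨⟨d.toNat, by omega⟩, by simp only; omega⟩
  have hchk := order_check l k
  simp only [hk, hl] at hchk
  have hdiv : 86400 * (d * (d + 1)) / (d * (d + 1) + x * x * (d + 1) - (x + 1) * (x + 1) * d) = n := by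
    rw [← heq, Int.mul_ediv_cancel _ hPpos.ne']
  rw [hdiv] at hchk
  have h25 := hchk hd1 hy2 h8 hPpos (by rw [← heq, Int.mul_emod_left]) ?_ ?_ ?_ hsq
  · rw [hn] at h25
    omega
  · rw [hn]; omega
  · rw [hn]
    intro h16
    exact E.not_sixteen (by omega)
  · rw [hn]; omega

end Char

end CfsgLib.J1Recog
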