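import Cfsg.Agent.Lib.Sporadic.J1.Recog.Centralizer
import Cfsg.Agent.Lib.Sporadic.J1.Recog.Count
import Cfsg.Agent.Lib.Sporadic.J1.Recog.Cert.C5_10
import Cfsg.Agent.Lib.Sporadic.J1.Recog.Cert.C5_11
import Cfsg.Agent.Lib.Sporadic.J1.Recog.Cert.C5_30
import Cfsg.Agent.Lib.Sporadic.J1.Recog.Cert.C5_31
import Cfsg.Agent.Lib.Sporadic.J1.Recog.Cert.C3_00_0
import Cfsg.Agent.Lib.Sporadic.J1.Recog.Cert.C3_00_1
import Cfsg.Agent.Lib.Sporadic.J1.Recog.Cert.C3_00_2
import Cfsg.Agent.Lib.Sporadic.J1.Recog.Cert.C3_01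
import Cfsg.Agent.Lib.Sporadic.J1.Recog.Cert.C3_10
import Cfsg.Agent.Lib.Sporadic.J1.Recog.Cert.C3_11_0
import Cfsg.Agent.Lib.Sporadic.J1.Recog.Cert.C3_11_1
import Cfsg.Agent.Lib.Sporadic.J1.Recog.Cert.C3_11_2
import Cfsg.Agent.Lib.Sporadic.J1.Recog.Cert.D3_10
import Cfsg.Agent.Lib.Sporadic.J1.Recog.Cert.D3_11
import Cfsg.Agent.Lib.Sporadic.J1.Recog.Cert.D3_30
import Cfsg.Agent.Lib.Sporadic.J1.Recog.Cert.D3_31
import Cfsg.Agent.Lib.Sporadic.J1.Recog.Cert.D5_10
import Cfsg.Agent.Lib.Sporadic.J1.Recog.Cert.D5_11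
import Cfsg.Agent.Lib.Sporadic.J1.Recog.Cert.D5_30
import Cfsg.Agent.Lib.Sporadic.J1.Recog.Cert.D5_31

/-!
# The two centralisers of elements of odd order decide the relations
-/

set_option autoImplicit false
set_option maxRecDepth 8000

namespace CfsgLib.J1Recog

open Subgroup
open CfsgLib.CosetEnum

universe u

/-- The element of `2 × A₅` given by a word. -/
def wElt (l : List ℕ) : M := (l.map mletter).prod

/-- The three-cycle inverted by `v`. -/
def zc : M := wElt wc0

/-- The five-cycle inverted by `v`. -/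
def zd : M := wElt wd0

theorem zc_cyclic : ∀ m : M, m * zc = zc * m → m ^ 15 = 1 →
    m ∈ (List.range 5).map (zc ^ ·) := by
  decide +kernel

theorem good_zc : GoodElt zc :=
  ⟨by decide +kernel, by decide +kernel, by decide +kernel, by decide +kernel,
    fun m h h' => let ⟨k, hk, he⟩ := List.mem_map.mp (zc_cyclic m h h'); ⟨k, List.mem_range.mp hk, he.symm⟩, by decide +kernel⟩

theorem zd_cyclic : ∀ m : M, m * zd = zd * m → m ^ 15 = 1 →
    m ∈ (List.range 5).map (zd ^ ·) := by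
  decide +kernel

theorem good_zd : GoodElt zd :=
  ⟨by decide +kernel, by decide +kernel, by decide +kernel, by decide +kernel,
    fun m h h' => let ⟨k, hk, he⟩ := List.mem_map.mp (zd_cyclic m h h'); ⟨k, List.mem_range.mp hk, he.symm⟩, by decide +kernel⟩

/-- Representatives of the elements of odd order inverted by `f⁻¹ t f`. -/
def rep1 : List (List ℕ) := [[0, 5], [0, 4, 3], [4], [1, 5]]

/-- Representatives of the elements of odd order inverted by `f⁻³ t f³`. -/
def rep3 : List (List ℕ) := [[3, 4], [3, 5], [0, 4], [0, 4, 1]]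

theorem rep1_spec : ∀ m : M, sOf 5 * m * sOf 5 = m⁻¹ → m ^ 15 = 1 →
    m = 1 ∨ ∃ l ∈ rep1, ∃ k < 5, m ^ k = wElt l := by decide +kernel

theorem rep3_spec : ∀ m : M, sOf 6 * m * sOf 6 = m⁻¹ → m ^ 15 = 1 →
    m = 1 ∨ ∃ l ∈ rep3, ∃ k < 5, m ^ k = wElt l := by decide +kernel

theorem rep_lt : ∀ l ∈ rep1 ++ rep3, ∀ x ∈ l, x < 6 := by decide

theorem rep_three_cyclic : ∀ l ∈ ([[0, 5], [0, 4, 3], [3, 4], [3, 5]] : List (List ℕ)), ∀ m : M,
    m * wElt l = wElt l * m → m ^ 15 = 1 → ∃ n < 3, m = wElt l ^ n := by decide +kernel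

theorem rep_three_conj : ∀ l ∈ ([[0, 5], [0, 4, 3], [3, 4], [3, 5]] : List (List ℕ)),
    wElt l ^ 3 = 1 ∧ wElt l ≠ 1 ∧ ∃ g : M, g * zc * g⁻¹ = wElt l := by decide +kernel

section Words

variable {X : Type*} [Group X] {j : M →* X} {f : X}

/-- The element `fⁱ x f⁻ⁱ`. -/
def yElem (j : M →* X) (f : X) (i : ℕ) (l : List ℕ) : X := f ^ i * j (wElt l) * (f ^ i)⁻¹

theorem yWord_lt {i : ℕ} {l : List ℕ} (hl : ∀ x ∈ l, x < 6) : ∀ x ∈ yWord i l, x < 16 := by
  intro x hx
  simp only [yWord, List.mem_append, List.mem_replicate] at hx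
  rcases hx with (⟨-, rfl⟩ | hx) | ⟨-, rfl⟩
  · norm_num
  · exact (hl x hx).trans (by norm_num)
  · norm_num

theorem prod_yWord {i : ℕ} {l : List ℕ} (hl : ∀ x ∈ l, x < 6) :
    ((yWord i l).map (letter j f)).prod = yElem j f i l := by
  simp only [yWord, List.map_append, List.map_replicate, List.prod_append, List.prod_replicate, letter_six,
    letter_seven, prod_m j f hl, inv_pow, yElem, wElt]

theorem commWord_ok {z y : List ℕ} (hz : ∀ x ∈ z, x < 16) (hy : ∀ x ∈ y, x < 16)
    (h : Commute ((z.map (letter j f)).prod) ((y.map (letter j f)).prod)) :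
    (∀ x ∈ commWord z y, x < 16) ∧ ((commWord z y).map (letter j f)).prod = 1 := by
  constructor
  · intro x hx
    simp only [commWord, List.mem_append] at hx
    rcases hx with ((hx | hx) | hx) | hx
    · exact hz x hx
    · exact hy x hx
    · exact invWord_lt_sixteen x hx
    · exact invWord_lt_sixteen x hx
  · rw [commWord, List.map_append, List.prod_append, List.map_append, List.prod_append, List.map_append,
      List.prod_append, prod_inv hz, prod_inv hy, h.eq, mul_inv_cancel_right, mul_inv_cancel]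

theorem quadWord_ok {y z e : List ℕ} (hy : ∀ x ∈ y, x < 16) (hz : ∀ x ∈ z, x < 16) (he : ∀ x ∈ e, x < 16)
    (h : ((y.map (letter j f)).prod)⁻¹ * ((z.map (letter j f)).prod)⁻¹ * (y.map (letter j f)).prod *
      (z.map (letter j f)).prod * (e.map (letter j f)).prod = 1) :
    (∀ x ∈ quadWord y z e, x < 16) ∧ ((quadWord y z e).map (letter j f)).prod = 1 := by
  constructor
  · intro x hx
    simp only [quadWord, List.mem_append] at hx
    rcases hx with (((hx | hx) | hx) | hx) | hx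
    · exact invWord_lt_sixteen x hx
    · exact invWord_lt_sixteen x hx
    · exact hy x hx
    · exact hz x hx
    · exact he x hx
  · rw [quadWord, List.map_append, List.prod_append, List.map_append, List.prod_append, List.map_append,
      List.prod_append, List.map_append, List.prod_append, prod_inv hy, prod_inv hz]
    exact h

theorem comm_rel {zw l : List ℕ} {i : ℕ} (hzw : ∀ x ∈ zw, x < 6) (hl : ∀ x ∈ l, x < 6)
    (h : Commute (j (wElt zw)) (yElem j f i l)) :
    (∀ x ∈ commWord zw (yWord i l), x < 16) ∧ ((commWord zw (yWord i l)).map (letter j f)).prod = 1 :=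
  commWord_ok (fun x hx => (hzw x hx).trans (by norm_num)) (yWord_lt hl) (by
    rw [prod_m j f hzw, prod_yWord hl]
    exact h)

theorem ok_single (h : IsAmal j f) (k : ℕ) {w : List ℕ}
    (hw : (∀ x ∈ w, x < 16) ∧ (w.map (letter j f)).prod = 1) :
    ∀ l ∈ mWords.take k ++ amalWords ++ [w], (∀ x ∈ l, x < 16) ∧ (l.map (letter j f)).prod = 1 := by
  intro l hl
  rcases List.mem_append.mp hl with hl | hl
  · exact amal_ok h k l hl
  · rw [List.mem_singleton] at hl; subst hl; exact hw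

theorem ok_pair (h : IsAmal j f) (k : ℕ) {w w' : List ℕ}
    (hw : (∀ x ∈ w, x < 16) ∧ (w.map (letter j f)).prod = 1)
    (hw' : (∀ x ∈ w', x < 16) ∧ (w'.map (letter j f)).prod = 1) :
    ∀ l ∈ mWords.take k ++ amalWords ++ [w, w'], (∀ x ∈ l, x < 16) ∧ (l.map (letter j f)).prod = 1 := by
  intro l hl
  rcases List.mem_append.mp hl with hl | hl
  · exact amal_ok h k l hl
  · simp only [List.mem_cons, List.not_mem_nil, or_false] at hl
    rcases hl with rfl | rfl
    · exact hw
    · exact hw'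

theorem ok_triple (h : IsAmal j f) (k : ℕ) {w w' w'' : List ℕ}
    (hw : (∀ x ∈ w, x < 16) ∧ (w.map (letter j f)).prod = 1)
    (hw' : (∀ x ∈ w', x < 16) ∧ (w'.map (letter j f)).prod = 1)
    (hw'' : (∀ x ∈ w'', x < 16) ∧ (w''.map (letter j f)).prod = 1) :
    ∀ l ∈ mWords.take k ++ amalWords ++ [w, w', w''], (∀ x ∈ l, x < 16) ∧ (l.map (letter j f)).prod = 1 := by
  intro l hl
  rcases List.mem_append.mp hl with hl | hl
  · exact amal_ok h k l hl
  · simp only [List.mem_cons, List.not_mem_nil, or_false] at hl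
    rcases hl with rfl | rfl | rfl
    · exact hw
    · exact hw'
    · exact hw''

theorem no_collapse (hj : Function.Injective j) (h : IsAmal j f)
    (hc : CoversCosets (span j f) j.range 1) : False := by
  obtain ⟨u, hu⟩ := hc
  obtain ⟨k, hk, h1⟩ := hu 1 (one_mem _)
  obtain ⟨k', hk', h2⟩ := hu f (mem_sup_right (mem_zpowers f))
  obtain rfl : k = 0 := by omega
  obtain rfl : k' = 0 := by omega
  have := mul_mem h2 (inv_mem h1)
  obtain ⟨m, hm⟩ : f ∈ j.range := by simpa [mul_assoc] using this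
  have e := h.f_t
  rw [← hm, ← map_inv, ← map_mul, ← map_mul] at e
  have key : ∀ m : M, m * lt * m⁻¹ ≠ lv := by decide +kernel
  exact key m (hj e)

/-- The relation found in the centraliser of the three-cycle. -/
def RelC (j : M →* X) (f : X) : Prop := Commute (j zc) (yElem j f 1 [1, 5])

/-- The relation found in the centraliser of the five-cycle. -/
def RelD (j : M →* X) (f : X) : Prop := Commute (j zd) (yElem j f 3 [3, 4])

theorem card_le_relC (h : IsAmal j f) (hr : RelC j f) :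
    Finite (span j f) ∧ Nat.card (span j f) ≤ 175560 :=
  card_le C5_11.cert C5_11.check (ok_single h 132 (comm_rel (by decide) (by decide) hr))

theorem card_le_relD (h : IsAmal j f) (hr : RelD j f) :
    Finite (span j f) ∧ Nat.card (span j f) ≤ 175560 :=
  card_le D3_30.cert D3_30.check (ok_single h 34 (comm_rel (by decide) (by decide) hr))

end Words

section Sides

variable {G : Type u} [Group G] [Finite G] {E : Emb G} {f : G} {z : M} {K : Subgroup G}

theorem Emb.exists_pre (hA : IsAmal E.j f) (hz : GoodElt z) (hK : Core E z K) (i : ℕ) {kw ku : Fin 8}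
    (hw : F0^[i] kw = 1) (hu : F0^[i] 1 = ku) (hk : IsSide ku) {y : G} (hy : y ∈ K)
    (hc : y * E.j (sOf ku) = E.j (sOf ku) * y) :
    ∃ m : M, y = f ^ i * E.j m * (f ^ i)⁻¹ ∧ sOf kw * m * sOf kw = m⁻¹ ∧ m ^ 15 = 1 := by
  have hact := (E.acts_amal hA).pow E i
  have h1 := hact 1
  rw [hu, sOf_one, show E.j lt = E.t from rfl] at h1
  have h2 := hact kw
  rw [hw, sOf_one, show E.j lt = E.t from rfl] at h2
  have hti := hK.t_inverts hz hk hy hc
  obtain ⟨m, hm⟩ := E.mem_range_of_commute (x := (f ^ i)⁻¹ * y * f ^ i) (by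
    calc (f ^ i)⁻¹ * y * f ^ i * E.t = (f ^ i)⁻¹ * (y * (f ^ i * E.t * (f ^ i)⁻¹)) * f ^ i := by group
      _ = (f ^ i)⁻¹ * (f ^ i * E.t * (f ^ i)⁻¹ * y) * f ^ i := by rw [h1, hc]
      _ = E.t * ((f ^ i)⁻¹ * y * f ^ i) := by group)
  refine ⟨m, by rw [hm]; group, E.inj ?_, ?_⟩
  · rw [map_mul, map_mul, map_inv, hm]
    calc E.j (sOf kw) * ((f ^ i)⁻¹ * y * f ^ i) * E.j (sOf kw)
        = (f ^ i)⁻¹ * (f ^ i * E.j (sOf kw) * (f ^ i)⁻¹ * y * (f ^ i * E.j (sOf kw) * (f ^ i)⁻¹)) * f ^ i := by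
          group
      _ = (f ^ i)⁻¹ * y⁻¹ * f ^ i := by rw [h2, hti]
      _ = ((f ^ i)⁻¹ * y * f ^ i)⁻¹ := by group
  · have ho := ((hK.mem_iff y).mp hy).2
    rw [show y = MulAut.conj (f ^ i) (E.j m) by rw [MulAut.conj_apply, hm]; group, MulEquiv.orderOf_eq,
      orderOf_injective _ E.inj] at ho
    exact pow_fifteen_of_odd ho

/-- A fixed point of a side gives one of the representatives. -/
theorem Emb.exists_rep (hA : IsAmal E.j f) (hz : GoodElt z) (hK : Core E z K) (i : ℕ) {kw ku : Fin 8}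
    (hw : F0^[i] kw = 1) (hu : F0^[i] 1 = ku) (hk : IsSide ku) {reps : List (List ℕ)}
    (hspec : ∀ m : M, sOf kw * m * sOf kw = m⁻¹ → m ^ 15 = 1 →
      m = 1 ∨ ∃ l ∈ reps, ∃ k < 5, m ^ k = wElt l)
    {y : G} (hy : y ∈ K) (hc : y * E.j (sOf ku) = E.j (sOf ku) * y) (hy1 : y ≠ 1) :
    ∃ l ∈ reps, yElem E.j f i l ∈ K ∧
      yElem E.j f i l * E.j (sOf ku) = E.j (sOf ku) * yElem E.j f i l := by
  obtain ⟨m, hm, hmw, hm15⟩ := E.exists_pre hA hz hK i hw hu hk hy hc
  rcases hspec m hmw hm15 with rfl | ⟨l, hl, k, -, hkl⟩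
  · exact absurd (by rw [hm, map_one]; group) hy1
  · have e : yElem E.j f i l = y ^ k := by rw [yElem, ← hkl, hm, conj_pow, map_pow]
    exact ⟨l, hl, e ▸ pow_mem hy k, by rw [e]; exact (Commute.pow_left hc k).eq⟩

theorem Core.commute_z (hK : Core E z K) {y : G} (hy : y ∈ K) : Commute (E.j z) y :=
  ((hK.mem_iff y).mp hy).1.symm

/-- Two fixed points of one side commute. -/
theorem Core.fixed_commute (hz : GoodElt z) (hK : Core E z K) {k : Fin 8} (hk : IsSide k) {a b : G}
    (ha : a ∈ K) (hac : a * E.j (sOf k) = E.j (sOf k) * a) (hb : b ∈ K)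
    (hbc : b * E.j (sOf k) = E.j (sOf k) * b) : a * b = b * a := by
  have h1 := hK.t_inverts hz hk ha hac
  have h2 := hK.t_inverts hz hk hb hbc
  have h3 := hK.t_inverts hz hk (mul_mem ha hb) (Commute.mul_left hac hbc).eq
  have h4 : E.t * (a * b) * E.t = (E.t * a * E.t) * (E.t * b * E.t) := by
    calc E.t * (a * b) * E.t = E.t * a * 1 * b * E.t := by group
      _ = _ := by rw [← E.t_mul_self]; group
  rw [h1, h2, h3, mul_inv_rev] at h4
  calc a * b = (b⁻¹ * a⁻¹)⁻¹ := by group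
    _ = (a⁻¹ * b⁻¹)⁻¹ := by rw [h4]
    _ = b * a := by group

theorem Emb.no_order_four (E : Emb G) (x : G) : ¬ 4 ∣ orderOf x := by
  rintro ⟨r, hr⟩
  haveI : Fact (Nat.Prime 2) := ⟨Nat.prime_two⟩
  have hr0 : 0 < r := by have := orderOf_pos x; omega
  have hw : orderOf (x ^ r) = 4 := by
    rw [orderOf_pow, hr, Nat.gcd_mul_left_left, Nat.mul_div_cancel _ hr0]
  obtain ⟨P, hP⟩ := E.exists_sylow
  obtain ⟨Q, hQ⟩ := (IsPGroup.of_card (p := 2) (n := 2) (G := zpowers (x ^ r)) (by
    rw [Nat.card_zpowers, hw]; norm_num)).exists_le_sylow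
  obtain ⟨g, hg⟩ := MulAction.exists_smul_eq G Q P
  have hwQ := hQ (mem_zpowers (x ^ r))
  generalize x ^ r = w at hwQ hw
  have hmem : g * w * g⁻¹ ∈ E.sylow := by
    rw [← hP, ← hg, Sylow.coe_subgroup_smul, mem_pointwise_smul_iff_inv_smul_mem]
    simpa [MulAut.conj_inv_apply, mul_assoc] using hwQ
  have h2 := E.sq_eq_one_of_mem hmem
  rw [← pow_two, conj_pow, mul_inv_eq_one, mul_eq_left] at h2
  have := orderOf_dvd_of_pow_eq_one h2
  rw [hw] at this
  norm_num at this

/-- The linear map of pairs with given images of the basis. -/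
def actP (A C P : Fin 3 × Fin 3) : Fin 3 × Fin 3 :=
  (⟨(A.1.val * P.1.val + C.1.val * P.2.val) % 3, Nat.mod_lt _ (by norm_num)⟩,
    ⟨(A.2.val * P.1.val + C.2.val * P.2.val) % 3, Nat.mod_lt _ (by norm_num)⟩)

theorem four_cases : ∀ a b : Fin 3, b ≠ 0 →
    let h := actP (a, b) (1, 0); let t := actP (1, 0) (0, 2); let u := actP (2, 0) (0, 1)
    ((h^[2] ≠ id ∧ h^[8] = id) ∨ ((h ∘ t)^[2] ≠ id ∧ (h ∘ t)^[8] = id) ∨
      ((h ∘ u)^[2] ≠ id ∧ (h ∘ u)^[8] = id) ∨ ((h ∘ t ∘ u)^[2] ≠ id ∧ (h ∘ t ∘ u)^[8] = id)) := by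
  decide +kernel

/-- A fixed point of order 3 on exactly one side is impossible. -/
theorem Emb.no_single (hA : IsAmal E.j f) {K : Subgroup G} (hK : Core E zc K) (i : ℕ) {kw ku ku' : Fin 8}
    (hw : F0^[i] kw = 1) (hu : F0^[i] 1 = ku) (hk : IsSide ku) (hk' : IsSide ku')
    (hne : sOf ku * sOf ku' = lt)
    {l : List ℕ} (hl : l ∈ ([[0, 5], [0, 4, 3], [3, 4], [3, 5]] : List (List ℕ)))
    (hy : yElem E.j f i l ∈ K)
    (hyc : yElem E.j f i l * E.j (sOf ku) = E.j (sOf ku) * yElem E.j f i l)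
    (hno : ∀ x ∈ K, x * E.j (sOf ku') = E.j (sOf ku') * x → x = 1) : False := by
  obtain ⟨hl3, hl1, g₀, hg₀⟩ := rep_three_conj l hl
  set y := yElem E.j f i l with hydef
  set Z := E.j zc with hZdef
  have hz3 : Z ^ 3 = 1 := by rw [hZdef, ← map_pow, show zc ^ 3 = 1 by decide +kernel, map_one]
  have hz1 : Z ≠ 1 := fun h => (show zc ≠ 1 by decide +kernel) (E.inj (h.trans (map_one E.j).symm))
  have hy3 : y ^ 3 = 1 := by rw [hydef, yElem, conj_pow, ← map_pow, hl3, map_one]; group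
  have hy1 : y ≠ 1 := fun h => hl1 (E.inj (by
    rw [map_one]
    rw [hydef, yElem, mul_inv_eq_one, mul_eq_left] at h
    exact h))
  have hu2 : E.j (sOf ku) * E.j (sOf ku) = 1 := E.sq_eq_one_of_mem (E.mem_sylow ku)
  have hu2' : E.j (sOf ku') * E.j (sOf ku') = 1 := E.sq_eq_one_of_mem (E.mem_sylow ku')
  have hinv' := hK.side_inverts good_zc hk' hno
  have hcomm : ∀ a ∈ K, ∀ b ∈ K, a * b = b * a := by
    intro a ha b hb
    have h4 : E.j (sOf ku') * (a * b) * E.j (sOf ku') =
        (E.j (sOf ku') * a * E.j (sOf ku')) * (E.j (sOf ku') * b * E.j (sOf ku')) := by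
      calc E.j (sOf ku') * (a * b) * E.j (sOf ku') = E.j (sOf ku') * a * 1 * b * E.j (sOf ku') := by group
        _ = _ := by rw [← hu2']; group
    rw [hinv' _ ha, hinv' _ hb, hinv' _ (mul_mem ha hb), mul_inv_rev] at h4
    calc a * b = (b⁻¹ * a⁻¹)⁻¹ := by group
      _ = (a⁻¹ * b⁻¹)⁻¹ := by rw [h4]
      _ = b * a := by group
  let mk : Fin 3 × Fin 3 → G := fun P => Z ^ P.1.val * y ^ P.2.val
  have hred : ∀ p q : ℕ, Z ^ p * y ^ q = mk (⟨p % 3, Nat.mod_lt _ (by norm_num)⟩, ⟨q % 3, Nat.mod_lt _ (by norm_num)⟩) :=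
    fun p q => by rw [pow_eq_pow_mod p hz3, pow_eq_pow_mod q hy3]
  have hzy : Commute Z y := hK.commute_z hy
  -- every element of the odd part is of the form `z^a y^b`
  have hgen : ∀ x ∈ K, ∃ P, x = mk P := by
    intro x hx
    have hux := hK.side_map good_zc hk hx
    have hcx : Commute x (E.j (sOf ku) * x * E.j (sOf ku)) := hcomm _ hx _ hux
    obtain ⟨n, hn⟩ := ((hK.mem_iff x).mp hx).2
    set a := x * (E.j (sOf ku) * x * E.j (sOf ku)) with ha
    set b := x * (E.j (sOf ku) * x * E.j (sOf ku))⁻¹ with hb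
    have haK : a ∈ K := mul_mem hx hux
    have hbK : b ∈ K := mul_mem hx (inv_mem hux)
    have hau : a * E.j (sOf ku) = E.j (sOf ku) * a := by
      rw [ha]
      conv_rhs => rw [hcx.eq]
      calc x * (E.j (sOf ku) * x * E.j (sOf ku)) * E.j (sOf ku)
          = x * E.j (sOf ku) * x * (E.j (sOf ku) * E.j (sOf ku)) := by group
        _ = (E.j (sOf ku) * E.j (sOf ku)) * (x * E.j (sOf ku) * x) := by rw [hu2, one_mul, mul_one]
        _ = E.j (sOf ku) * (E.j (sOf ku) * x * E.j (sOf ku) * x) := by group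
    obtain ⟨p, hp⟩ : ∃ p : ℕ, a = y ^ p := by
      obtain ⟨m, hm, -, hm15⟩ := E.exists_pre hA good_zc hK i hw hu hk haK hau
      have hc := hK.fixed_commute good_zc hk haK hau hy hyc
      rw [hm, hydef, yElem] at hc
      have hc' : m * wElt l = wElt l * m := E.inj (by
        rw [map_mul, map_mul]
        apply mul_left_cancel (a := f ^ i)
        apply mul_right_cancel (b := (f ^ i)⁻¹)
        calc f ^ i * (E.j m * E.j (wElt l)) * (f ^ i)⁻¹
            = f ^ i * E.j m * (f ^ i)⁻¹ * (f ^ i * E.j (wElt l) * (f ^ i)⁻¹) := by group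
          _ = _ := by rw [hc]; group)
      obtain ⟨p, -, rfl⟩ := rep_three_cyclic l hl m hc' hm15
      exact ⟨p, by rw [hm, hydef, yElem, conj_pow, map_pow]⟩
    obtain ⟨q, hq⟩ : ∃ q : ℕ, b = Z ^ q := by
      have hub : E.j (sOf ku) * b * E.j (sOf ku) = b⁻¹ := by
        rw [hb]
        calc E.j (sOf ku) * (x * (E.j (sOf ku) * x * E.j (sOf ku))⁻¹) * E.j (sOf ku)
            = (E.j (sOf ku) * x * (E.j (sOf ku))⁻¹) * x⁻¹ * ((E.j (sOf ku))⁻¹ * E.j (sOf ku)) := by group
          _ = (E.j (sOf ku) * x * E.j (sOf ku)) * x⁻¹ := by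
            rw [inv_eq_of_mul_eq_one_right hu2, hu2, mul_one]
          _ = _ := by group
      have ht : E.t * b * E.t = b := by
        rw [Emb.t, ← hne]
        have h' : sOf ku * sOf ku' = sOf ku' * sOf ku := by
          have : ∀ a b, sOf a * sOf b = sOf b * sOf a := by decide +kernel
          exact this _ _
        conv_lhs => arg 1; arg 1; rw [h']
        rw [map_mul, map_mul]
        calc E.j (sOf ku') * E.j (sOf ku) * b * (E.j (sOf ku) * E.j (sOf ku'))
            = E.j (sOf ku') * (E.j (sOf ku) * b * E.j (sOf ku)) * E.j (sOf ku') := by group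
          _ = b := by rw [hub, hinv' _ (inv_mem hbK), inv_inv]
      obtain ⟨q, -, hq⟩ := hK.t_fixed good_zc hbK (by
        calc b * E.t = E.t * b * E.t * E.t := by rw [ht]
          _ = E.t * b := by rw [mul_assoc, E.t_mul_self, mul_one])
      exact ⟨q, hq⟩
    have hxx : x = a ^ (n + 1) * b ^ (n + 1) := by
      rw [← Commute.mul_pow (hcomm _ haK _ hbK), show a * b = x ^ 2 by
        rw [ha, hb]
        calc x * (E.j (sOf ku) * x * E.j (sOf ku)) * (x * (E.j (sOf ku) * x * E.j (sOf ku))⁻¹)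
            = x * ((E.j (sOf ku) * x * E.j (sOf ku)) * x) * (E.j (sOf ku) * x * E.j (sOf ku))⁻¹ := by group
          _ = x * (x * (E.j (sOf ku) * x * E.j (sOf ku))) * (E.j (sOf ku) * x * E.j (sOf ku))⁻¹ := by rw [hcx.eq]
          _ = x ^ 2 := by rw [sq]; group, ← pow_mul,
        show 2 * (n + 1) = orderOf x + 1 by omega, pow_succ, pow_orderOf_eq_one, one_mul]
    rw [hp, hq, ← pow_mul, ← pow_mul, (hzy.pow_pow _ _).eq.symm, hred] at hxx
    exact ⟨_, hxx⟩
  have hmk1 : ∀ P, mk P = 1 → P = (0, 0) := by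
    rintro ⟨⟨p, hp⟩, ⟨q, hq⟩⟩ h
    simp only [mk] at h
    have h2 : Z ^ p * (y ^ q)⁻¹ = 1 := by
      have ht := hK.t_inverts good_zc hk hy hyc
      have htz : E.t * Z * E.t = Z := by rw [hZdef, E.t_commute, mul_assoc, E.t_mul_self, mul_one]
      have h' : (E.t * Z * E.t⁻¹) ^ p * (E.t * y * E.t⁻¹) ^ q = 1 := by
        rw [conj_pow, conj_pow, show E.t * Z ^ p * E.t⁻¹ * (E.t * y ^ q * E.t⁻¹) = E.t * (Z ^ p * y ^ q) * E.t⁻¹ by group, h]
        group
      rwa [inv_eq_of_mul_eq_one_right E.t_mul_self, htz, ht, inv_pow] at h'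
    have h3 : Z ^ (p + p) = 1 := by
      rw [pow_add]
      calc Z ^ p * Z ^ p = Z ^ p * (Z ^ p * y ^ q * (y ^ q)⁻¹) := by group
        _ = 1 := by rw [h, one_mul, h2]
    have h4 : orderOf Z = 3 := orderOf_eq_prime hz3 hz1
    have hp0 : p = 0 := by
      have := h4 ▸ orderOf_dvd_of_pow_eq_one h3
      omega
    subst hp0
    rw [pow_zero, one_mul] at h
    have h5 : orderOf y = 3 := orderOf_eq_prime hy3 hy1
    have hq0 : q = 0 := by
      have := h5 ▸ orderOf_dvd_of_pow_eq_one h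
      omega
    subst hq0
    rfl
  have hinj : ∀ P Q, mk P = mk Q → P = Q := by
    intro P Q h
    have h1 : Z ^ (P.1.val + (3 - Q.1.val)) * y ^ (P.2.val + (3 - Q.2.val)) = 1 := by
      have e : mk Q * (Z ^ (3 - Q.1.val) * y ^ (3 - Q.2.val)) = 1 := by
        simp only [mk]
        rw [mul_assoc, ← mul_assoc (y ^ Q.2.val), ← (hzy.pow_pow _ _).eq, mul_assoc (Z ^ (3 - Q.1.val)),
          ← pow_add, ← mul_assoc, ← pow_add, Nat.add_sub_cancel' (by omega), Nat.add_sub_cancel' (by omega),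
          hz3, hy3, one_mul]
      rw [← h] at e
      simp only [mk] at e
      rw [pow_add, pow_add, ← e, mul_assoc, mul_assoc, ← mul_assoc (Z ^ (3 - Q.1.val)),
        (hzy.pow_pow (3 - Q.1.val) P.2.val).eq, mul_assoc]
    rw [hred] at h1
    have h2 := hmk1 _ h1
    simp only [Prod.mk.injEq, Fin.ext_iff, Fin.val_zero] at h2
    refine Prod.ext (Fin.ext ?_) (Fin.ext ?_) <;> omega
  -- actions
  let Act : G → (Fin 3 × Fin 3 → Fin 3 × Fin 3) → Prop := fun x σ => ∀ P, x * mk P * x⁻¹ = mk (σ P)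
  have hlin : ∀ x A C, x * Z * x⁻¹ = mk A → x * y * x⁻¹ = mk C → Act x (actP A C) := by
    intro x A C hA' hC' P
    calc x * (Z ^ P.1.val * y ^ P.2.val) * x⁻¹ = (x * Z * x⁻¹) ^ P.1.val * (x * y * x⁻¹) ^ P.2.val := by
          rw [conj_pow, conj_pow]; group
      _ = Z ^ (A.1.val * P.1.val + C.1.val * P.2.val) * y ^ (A.2.val * P.1.val + C.2.val * P.2.val) := by
          rw [hA', hC']
          simp only [mk]
          rw [(hzy.pow_pow _ _).mul_pow, (hzy.pow_pow _ _).mul_pow, ← pow_mul, ← pow_mul, ← pow_mul, ← pow_mul,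
            pow_add, pow_add, mul_assoc, mul_assoc, ← mul_assoc (y ^ (A.2.val * P.1.val)),
            ← (hzy.pow_pow (C.1.val * P.2.val) (A.2.val * P.1.val)).eq, mul_assoc]
      _ = _ := hred _ _
  have hmul : ∀ x x' σ σ', Act x σ → Act x' σ' → Act (x * x') (σ ∘ σ') := fun x x' σ σ' h h' P => by
    calc x * x' * mk P * (x * x')⁻¹ = x * (x' * mk P * x'⁻¹) * x⁻¹ := by group
      _ = _ := by rw [h' P, h]; rfl
  have hpow : ∀ x σ, Act x σ → ∀ n, Act (x ^ n) σ^[n] := by
    intro x σ h n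
    induction n with
    | zero => intro P; rw [pow_zero]; simp
    | succ n ih => rw [pow_succ', Function.iterate_succ']; exact hmul _ _ _ _ h ih
  have hno4 : ∀ x σ, Act x σ → ¬ (σ^[2] ≠ id ∧ σ^[8] = id) := by
    rintro x σ h ⟨h2, h8⟩
    refine h2 (funext fun P => ?_)
    have hn : Function.IsPeriodicPt σ (orderOf x) P := by
      refine hinj _ _ ?_
      rw [← hpow x σ h (orderOf x) P, pow_orderOf_eq_one]
      group
    have h8' : Function.IsPeriodicPt σ 8 P := congrFun h8 P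
    have hg : Nat.gcd (orderOf x) 8 ∣ 2 := by
      obtain ⟨k, hk, he⟩ := (Nat.dvd_prime_pow Nat.prime_two).mp
        (show Nat.gcd (orderOf x) 8 ∣ 2 ^ 3 from Nat.gcd_dvd_right _ _)
      rcases Nat.lt_or_ge k 2 with hk2 | hk2
      · rw [he]
        calc 2 ^ k ∣ 2 ^ 1 := pow_dvd_pow 2 (by omega)
          _ = 2 := by norm_num
      · exact absurd (((pow_dvd_pow 2 hk2).trans he.symm.dvd).trans (Nat.gcd_dvd_left _ _)) (E.no_order_four x)
    exact (hn.gcd h8').trans_dvd hg
  have hu : Act (E.j (sOf ku)) (actP (2, 0) (0, 1)) := by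
    refine hlin _ _ _ ?_ ?_
    · rw [inv_eq_of_mul_eq_one_right hu2, hZdef, ← map_mul, ← map_mul]
      have : sOf ku * zc * sOf ku = zc ^ 2 := by rcases hk with rfl | rfl <;> decide +kernel
      simp [mk, this, hZdef]
    · rw [← hyc]
      simp [mk]
  have ht : Act E.t (actP (1, 0) (0, 2)) := by
    refine hlin _ _ _ ?_ ?_
    · rw [hZdef, E.t_commute]
      simp [mk, hZdef]
    · rw [inv_eq_of_mul_eq_one_right E.t_mul_self, hK.t_inverts good_zc hk hy hyc]
      simp only [mk, Fin.val_zero, pow_zero, one_mul]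
      exact inv_eq_of_mul_eq_one_right (by rw [← pow_succ', ← hy3]; rfl)
  set h := (f ^ i * E.j g₀)⁻¹ with hh
  have hhy : h * y * h⁻¹ = Z := by
    rw [hh, hydef, yElem, ← hg₀, map_mul, map_mul, map_inv, hZdef]
    group
  have hhz : h * Z * h⁻¹ ∈ K := by
    refine (hK.mem_iff _).mpr ⟨?_, ?_⟩
    · show h * Z * h⁻¹ * Z = Z * (h * Z * h⁻¹)
      calc h * Z * h⁻¹ * Z = h * Z * h⁻¹ * (h * y * h⁻¹) := by rw [hhy]
        _ = h * (Z * y) * h⁻¹ := by group
        _ = h * (y * Z) * h⁻¹ := by rw [hzy.eq]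
        _ = h * y * h⁻¹ * (h * Z * h⁻¹) := by group
        _ = Z * (h * Z * h⁻¹) := by rw [hhy]
    · rw [← MulAut.conj_apply, MulEquiv.orderOf_eq]
      exact ((hK.mem_iff _).mp (hK.self_mem good_zc)).2
  obtain ⟨⟨a, b⟩, hab⟩ := hgen _ hhz
  have hb : b ≠ 0 := by
    rintro rfl
    have e : h * Z * h⁻¹ = h * y ^ a.val * h⁻¹ := by
      rw [hab, ← conj_pow, hhy]
      simp [mk]
    have e' : mk (1, 0) = mk (0, a) := by
      simpa [mk] using mul_left_cancel (mul_right_cancel e)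
    simpa using congrArg Prod.fst (hinj _ _ e')
  have hH : Act h (actP (a, b) (1, 0)) := hlin _ _ _ hab (by rw [hhy]; simp [mk])
  rcases four_cases a b hb with c | c | c | c
  · exact hno4 _ _ hH c
  · exact hno4 _ _ (hmul _ _ _ _ hH ht) c
  · exact hno4 _ _ (hmul _ _ _ _ hH hu) c
  · exact hno4 _ _ (hmul _ _ _ _ hH (hmul _ _ _ _ ht hu)) c

/-- The centraliser of the three-cycle gives the relation or is small. -/
theorem Emb.relC_or_small (hA : IsAmal E.j f) :
    RelC E.j f ∨ ∀ x : G, x * E.j zc = E.j zc * x → x ∈ E.j.range := by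
  obtain ⟨K, hK⟩ := E.exists_core good_zc
  have hside : ∀ l, yElem E.j f 1 l ∈ K → Commute (E.j zc) (yElem E.j f 1 l) := fun l h => hK.commute_z h
  have w1 : F0^[1] 5 = 1 ∧ F0^[1] 1 = 2 := by decide +kernel
  have w3 : F0^[3] 6 = 1 ∧ F0^[3] 1 = 3 := by decide +kernel
  by_contra hcon
  push Not at hcon
  obtain ⟨hnR, x₀, hx₀, hx₀r⟩ := hcon
  have S1 : ∀ l ∈ rep1, yElem E.j f 1 l ∈ K → l = [0, 5] ∨ l = [0, 4, 3] := by
    intro l hl hmem
    have hc := hK.commute_z hmem
    simp only [rep1, List.mem_cons, List.not_mem_nil, or_false] at hl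
    rcases hl with rfl | rfl | rfl | rfl
    · exact Or.inl rfl
    · exact Or.inr rfl
    · exact (no_collapse E.inj hA (covers C5_10.cert C5_10.check
        (ok_single hA 34 (comm_rel (by decide) (by decide) hc)))).elim
    · exact absurd hc hnR
  have S3 : ∀ l ∈ rep3, yElem E.j f 3 l ∈ K → l = [3, 4] ∨ l = [3, 5] := by
    intro l hl hmem
    have hc := hK.commute_z hmem
    simp only [rep3, List.mem_cons, List.not_mem_nil, or_false] at hl
    rcases hl with rfl | rfl | rfl | rfl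
    · exact Or.inl rfl
    · exact Or.inr rfl
    · exact (no_collapse E.inj hA (covers C5_30.cert C5_30.check
        (ok_single hA 34 (comm_rel (by decide) (by decide) hc)))).elim
    · exact (no_collapse E.inj hA (covers C5_31.cert C5_31.check
        (ok_single hA 34 (comm_rel (by decide) (by decide) hc)))).elim
  by_cases h2 : ∀ y ∈ K, y * E.j (sOf 2) = E.j (sOf 2) * y → y = 1 <;>
    by_cases h3 : ∀ y ∈ K, y * E.j (sOf 3) = E.j (sOf 3) * y → y = 1
  · exact hx₀r (hK.range_of_no_fixed good_zc h2 h3 x₀ hx₀)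
  · push Not at h3
    obtain ⟨y, hy, hyc, hy1⟩ := h3
    obtain ⟨l, hl, hlK, hlc⟩ := E.exists_rep hA good_zc hK 3 w3.1 w3.2 (Or.inr rfl) rep3_spec hy hyc hy1
    have hne : sOf 3 * sOf 2 = lt := by decide +kernel
    rcases S3 l hl hlK with rfl | rfl
    · exact E.no_single hA hK 3 w3.1 w3.2 (Or.inr rfl) (Or.inl rfl) hne (by simp) hlK hlc h2
    · exact E.no_single hA hK 3 w3.1 w3.2 (Or.inr rfl) (Or.inl rfl) hne (by simp) hlK hlc h2
  · push Not at h2
    obtain ⟨y, hy, hyc, hy1⟩ := h2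
    obtain ⟨l, hl, hlK, hlc⟩ := E.exists_rep hA good_zc hK 1 w1.1 w1.2 (Or.inl rfl) rep1_spec hy hyc hy1
    have hne : sOf 2 * sOf 3 = lt := by decide +kernel
    rcases S1 l hl hlK with rfl | rfl
    · exact E.no_single hA hK 1 w1.1 w1.2 (Or.inl rfl) (Or.inr rfl) hne (by simp) hlK hlc h3
    · exact E.no_single hA hK 1 w1.1 w1.2 (Or.inl rfl) (Or.inr rfl) hne (by simp) hlK hlc h3
  · push Not at h2 h3
    obtain ⟨y, hy, hyc, hy1⟩ := h2
    obtain ⟨y', hy', hyc', hy1'⟩ := h3
    obtain ⟨a, ha, haK, -⟩ := E.exists_rep hA good_zc hK 1 w1.1 w1.2 (Or.inl rfl) rep1_spec hy hyc hy1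
    obtain ⟨b, hb, hbK, -⟩ := E.exists_rep hA good_zc hK 3 w3.1 w3.2 (Or.inr rfl) rep3_spec hy' hyc' hy1'
    have hlt : ∀ {c : List ℕ}, c ∈ rep1 ++ rep3 → ∀ x ∈ c, x < 6 := fun hc => rep_lt _ hc
    have ra := comm_rel (zw := wc0) (by decide) (hlt (List.mem_append_left _ ha)) (hK.commute_z haK)
    have rb := comm_rel (zw := wc0) (by decide) (hlt (List.mem_append_right _ hb)) (hK.commute_z hbK)
    have rq : ∃ e ∈ ([[], wc0, invWord ip wc0] : List (List ℕ)),
        (∀ x ∈ quadWord (yWord 1 a) (yWord 3 b) e, x < 16) ∧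
          ((quadWord (yWord 1 a) (yWord 3 b) e).map (letter E.j f)).prod = 1 := by
      obtain ⟨k, hk, hke⟩ := hK.commutator_mem good_zc haK hbK
      have key : ∀ k < 5, ∃ e ∈ ([[], wc0, invWord ip wc0] : List (List ℕ)),
          (∀ x ∈ e, x < 6) ∧ zc ^ k * wElt e = 1 := by decide +kernel
      obtain ⟨e, he, he6, hke'⟩ := key k hk
      refine ⟨e, he, quadWord_ok (yWord_lt (hlt (List.mem_append_left _ ha)))
        (yWord_lt (hlt (List.mem_append_right _ hb))) (fun x hx => (he6 x hx).trans (by norm_num)) ?_⟩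
      rw [prod_yWord (hlt (List.mem_append_left _ ha)), prod_yWord (hlt (List.mem_append_right _ hb)),
        prod_m E.j f he6, hke, ← map_pow, ← map_mul]
      exact (congrArg E.j hke').trans (map_one _)
    obtain ⟨e, he, req⟩ := rq
    simp only [List.mem_cons, List.not_mem_nil, or_false] at he
    rcases S1 a ha haK with rfl | rfl <;> rcases S3 b hb hbK with rfl | rfl
    · rcases he with rfl | rfl | rfl
      · exact no_collapse E.inj hA (covers C3_00_0.cert C3_00_0.check (ok_triple hA 34 ra rb req))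
      · exact no_collapse E.inj hA (covers C3_00_1.cert C3_00_1.check (ok_triple hA 34 ra rb req))
      · exact no_collapse E.inj hA (covers C3_00_2.cert C3_00_2.check (ok_triple hA 132 ra rb req))
    · exact no_collapse E.inj hA (covers C3_01.cert C3_01.check (ok_pair hA 34 ra rb))
    · exact no_collapse E.inj hA (covers C3_10.cert C3_10.check (ok_pair hA 34 ra rb))
    · rcases he with rfl | rfl | rfl
      · exact no_collapse E.inj hA (covers C3_11_0.cert C3_11_0.check (ok_triple hA 34 ra rb req))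
      · exact no_collapse E.inj hA (covers C3_11_1.cert C3_11_1.check (ok_triple hA 34 ra rb req))
      · exact no_collapse E.inj hA (covers C3_11_2.cert C3_11_2.check (ok_triple hA 34 ra rb req))

/-- The centraliser of the five-cycle gives the relation or is small. -/
theorem Emb.relD_or_small (hA : IsAmal E.j f) :
    RelD E.j f ∨ ∀ x : G, x * E.j zd = E.j zd * x → x ∈ E.j.range := by
  obtain ⟨K, hK⟩ := E.exists_core good_zd
  have w1 : F0^[1] 5 = 1 ∧ F0^[1] 1 = 2 := by decide +kernel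
  have w3 : F0^[3] 6 = 1 ∧ F0^[3] 1 = 3 := by decide +kernel
  by_cases h2 : ∀ y ∈ K, y * E.j (sOf 2) = E.j (sOf 2) * y → y = 1
  · by_cases h3 : ∀ y ∈ K, y * E.j (sOf 3) = E.j (sOf 3) * y → y = 1
    · exact Or.inr (hK.range_of_no_fixed good_zd h2 h3)
    · push Not at h3
      obtain ⟨y, hy, hyc, hy1⟩ := h3
      obtain ⟨l, hl, hlK, -⟩ := E.exists_rep hA good_zd hK 3 w3.1 w3.2 (Or.inr rfl) rep3_spec hy hyc hy1
      have hc := hK.commute_z hlK
      simp only [rep3, List.mem_cons, List.not_mem_nil, or_false] at hl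
      rcases hl with rfl | rfl | rfl | rfl
      · exact Or.inl hc
      · exact (no_collapse E.inj hA (covers D3_31.cert D3_31.check
          (ok_single hA 34 (comm_rel (by decide) (by decide) hc)))).elim
      · exact (no_collapse E.inj hA (covers D5_30.cert D5_30.check
          (ok_single hA 34 (comm_rel (by decide) (by decide) hc)))).elim
      · exact (no_collapse E.inj hA (covers D5_31.cert D5_31.check
          (ok_single hA 34 (comm_rel (by decide) (by decide) hc)))).elim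
  · push Not at h2
    obtain ⟨y, hy, hyc, hy1⟩ := h2
    obtain ⟨l, hl, hlK, -⟩ := E.exists_rep hA good_zd hK 1 w1.1 w1.2 (Or.inl rfl) rep1_spec hy hyc hy1
    have hc := hK.commute_z hlK
    simp only [rep1, List.mem_cons, List.not_mem_nil, or_false] at hl
    rcases hl with rfl | rfl | rfl | rfl
    · exact (no_collapse E.inj hA (covers D3_10.cert D3_10.check
        (ok_single hA 34 (comm_rel (by decide) (by decide) hc)))).elim
    · exact (no_collapse E.inj hA (covers D3_11.cert D3_11.check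
        (ok_single hA 34 (comm_rel (by decide) (by decide) hc)))).elim
    · exact (no_collapse E.inj hA (covers D5_10.cert D5_10.check
        (ok_single hA 34 (comm_rel (by decide) (by decide) hc)))).elim
    · exact (no_collapse E.inj hA (covers D5_11.cert D5_11.check
        (ok_single hA 34 (comm_rel (by decide) (by decide) hc)))).elim

/-- One of the two relations holds. -/
theorem Emb.relC_or_relD (hA : IsAmal E.j f) : RelC E.j f ∨ RelD E.j f := by
  classical
  cases nonempty_fintype G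
  rcases E.relC_or_small hA with h | hsmall
  · exact Or.inl h
  refine Or.inr ((E.relD_or_small hA).resolve_right fun hd => ?_)
  obtain ⟨g, hg⟩ : ∃ g : M, g * lc * g⁻¹ = zc := by decide +kernel
  have hs : E.SmallC := by
    intro x hx
    obtain ⟨m, hm⟩ := hsmall (E.j g * x * (E.j g)⁻¹) (by
      rw [← hg, map_mul, map_mul, map_inv]
      calc E.j g * x * (E.j g)⁻¹ * (E.j g * E.j lc * (E.j g)⁻¹) = E.j g * (x * E.j lc) * (E.j g)⁻¹ := by group
        _ = E.j g * (E.j lc * x) * (E.j g)⁻¹ := by rw [hx]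
        _ = _ := by group)
    have hxm : x = E.j (g⁻¹ * m * g) := by rw [map_mul, map_mul, map_inv, hm]; group
    subst hxm
    have key : ∀ m : M, m * lc = lc * m → ∃ s : Six, sixHom s = m := by decide +kernel
    obtain ⟨s, hs⟩ := key (g⁻¹ * m * g) (E.inj ((map_mul E.j _ _).trans (hx.trans (map_mul E.j _ _).symm)))
    exact ⟨s, congrArg E.j hs⟩
  have h25 : 5 ^ 2 ∣ Nat.card G := by simpa using E.five_sq_dvd hA hs
  haveI : Fact (Nat.Prime 5) := ⟨by norm_num⟩
  have ho : orderOf (E.j zd) = 5 := by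
    rw [orderOf_injective _ E.inj, orderOf_eq_prime (p := 5) (by decide +kernel) (by decide +kernel)]
  have h1 := sq_dvd_card_centralizer ho h25
  have hle : centralizer ({E.j zd} : Set G) ≤ (centralizer ({zd} : Set M)).map E.j := by
    intro x hx
    rw [mem_centralizer_singleton_iff] at hx
    obtain ⟨m, rfl⟩ := hd x hx
    exact ⟨m, mem_centralizer_singleton_iff.mpr (E.inj (by rw [map_mul, map_mul]; exact hx)), rfl⟩
  have h2 := h1.trans (card_dvd_of_le hle)
  have hcc : Nat.card (centralizer ({zd} : Set M)) = Nat.card {m : M // m * zd = zd * m} :=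
    Nat.card_congr (Equiv.subtypeEquivRight fun m => mem_centralizer_singleton_iff)
  rw [card_map_of_injective E.inj, hcc, Nat.card_eq_fintype_card,
    show Fintype.card {m : M // m * zd = zd * m} = 10 by decide +kernel] at h2
  norm_num at h2

end Sides

end CfsgLib.J1Recog
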