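import Cfsg.Agent.Lib.Sporadic.J1.Recog.Local
import Mathlib.GroupTheory.Transfer
import Mathlib.GroupTheory.FixedPointFree
import Mathlib.GroupTheory.Nilpotent

/-!
# The odd part of the centraliser of an element of odd order of `2 × A₅`
-/

set_option autoImplicit false
set_option maxRecDepth 8000

namespace CfsgLib.J1Recog

open Subgroup

universe u

/-- An element of `2 × A₅` of odd order inverted by `v` whose centraliser is generated by it and `t`. -/
structure GoodElt (z : M) : Prop where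
  cent : ∀ m : M, m * z = z * m → m ^ 8 = 1 → m = 1 ∨ m = lt
  odd : z ^ 15 = 1
  inv_v : lv * z * lv = z⁻¹
  inv_tv : sOf 3 * z * sOf 3 = z⁻¹
  cyclic : ∀ m : M, m * z = z * m → m ^ 15 = 1 → ∃ k < 5, m = z ^ k
  noFix : ∀ m : M, m * z = z * m → m ^ 15 = 1 → (m * lv = lv * m ∨ m * sOf 3 = sOf 3 * m) → m = 1

theorem pow_fifteen_of_odd {m : M} (h : Odd (orderOf m)) : m ^ 15 = 1 := by
  rw [← orderOf_dvd_iff_pow_eq_one]
  have h120 : orderOf m ∣ 8 * 15 := by
    have := orderOf_dvd_card (x := m)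
    rwa [card_M] at this
  refine Nat.Coprime.dvd_of_dvd_mul_left ?_ h120
  rw [show (8 : ℕ) = 2 ^ 3 by norm_num]
  exact Nat.Coprime.pow_right 3 (Nat.coprime_two_right.mpr h)

theorem odd_of_pow_fifteen {X : Type*} [Monoid X] {m : X} (h : m ^ 15 = 1) : Odd (orderOf m) :=
  Odd.of_dvd_nat (by decide) (orderOf_dvd_of_pow_eq_one h)

/-- An involution normalising a finite subgroup and fixing no element but `1` inverts it. -/
theorem inverts_of_fixed {G : Type u} [Group G] [Finite G] {L : Subgroup G} {w : G} (hw : w * w = 1)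
    (hmap : ∀ y ∈ L, w * y * w ∈ L) (hfix : ∀ y ∈ L, y * w = w * y → y = 1) :
    ∀ y ∈ L, w * y * w = y⁻¹ := by
  let φ : L →* L := MonoidHom.mk' (fun y => ⟨w * y * w, hmap y y.2⟩) fun a b => Subtype.ext (by
    show w * ((a : G) * b) * w = w * a * w * (w * b * w)
    calc w * ((a : G) * b) * w = w * a * 1 * b * w := by group
      _ = _ := by rw [← hw]; group)
  have hφ : MonoidHom.FixedPointFree φ := fun y hy => Subtype.ext (hfix y y.2 (by
    have h : w * y * w = (y : G) := congrArg Subtype.val hy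
    calc (y : G) * w = w * y * (w * w) := by rw [← mul_assoc, h]
      _ = w * y := by rw [hw, mul_one]))
  have hinvol : Function.Involutive φ := fun y => Subtype.ext (by
    show w * (w * y * w) * w = (y : G)
    calc w * (w * y * w) * w = (w * w) * y * (w * w) := by group
      _ = y := by rw [hw, one_mul, mul_one])
  intro y hy
  exact congrArg Subtype.val (congrFun (MonoidHom.FixedPointFree.coe_eq_inv_of_involutive hφ hinvol) ⟨y, hy⟩)

section Core

variable {G : Type u} [Group G] [Finite G] (E : Emb G) {z : M}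

/-- A subgroup consisting of the elements of odd order commuting with `z`. -/
structure Core (z : M) (K : Subgroup G) : Prop where
  mem_iff : ∀ x : G, x ∈ K ↔ x * E.j z = E.j z * x ∧ Odd (orderOf x)
  cover : ∀ x : G, x * E.j z = E.j z * x → x ∈ K ∨ x * E.t ∈ K

theorem Emb.exists_core (hz : GoodElt z) : ∃ K : Subgroup G, Core E z K := by
  classical
  haveI : Fact (Nat.Prime 2) := ⟨Nat.prime_two⟩
  set C : Subgroup G := centralizer ({E.j z} : Set G) with hCdef
  have hCa : ∀ {x : G}, x ∈ C ↔ x * E.j z = E.j z * x := mem_centralizer_singleton_iff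
  have htC : E.t ∈ C := hCa.mpr (E.t_commute z)
  let tC : C := ⟨E.t, htC⟩
  have htC1 : tC ≠ 1 := fun h => E.t_ne_one (congrArg Subtype.val h)
  have htCo : orderOf tC = 2 :=
    orderOf_eq_prime (Subtype.ext (by rw [SubmonoidClass.coe_pow, OneMemClass.coe_one, sq]; exact E.t_mul_self))
      htC1
  have htt : ∀ w : C, w ∈ zpowers tC → w = 1 ∨ w = tC := by
    intro w hw
    rw [mem_zpowers_iff_mem_range_orderOf, htCo] at hw
    obtain ⟨i, hi, rfl⟩ := Finset.mem_image.mp hw
    rw [Finset.mem_range] at hi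
    interval_cases i
    · exact Or.inl (pow_zero _)
    · exact Or.inr (pow_one _)
  obtain ⟨P, hP⟩ := (IsPGroup.of_card (p := 2) (n := 1) (G := zpowers tC)
    (by rw [Nat.card_zpowers, htCo, pow_one])).exists_le_sylow
  -- a 2-element of `C` commuting with `t` is a power of `t`
  have htwo : ∀ w : C, (∃ k : ℕ, w ^ (2 ^ k) = 1) → w * tC = tC * w → w ∈ zpowers tC := by
    rintro ⟨w, hwC⟩ ⟨k, hk⟩ hwt
    obtain ⟨m, rfl⟩ := E.mem_range_of_commute (x := w) (congrArg Subtype.val hwt)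
    have h1 : m ^ (2 ^ k) = 1 := E.inj (by
      rw [map_pow, map_one]
      exact congrArg Subtype.val hk)
    have h8 : m ^ 8 = 1 := by
      rw [← orderOf_dvd_iff_pow_eq_one]
      obtain ⟨i, -, he⟩ := (Nat.dvd_prime_pow Nat.prime_two).mp (orderOf_dvd_of_pow_eq_one h1)
      have h120 : orderOf m ∣ 8 * 15 := by
        have := orderOf_dvd_card (x := m)
        rwa [card_M] at this
      rw [he] at h120 ⊢
      exact Nat.Coprime.dvd_of_dvd_mul_right (Nat.Coprime.pow_left i (by norm_num)) h120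
    rcases hz.cent m (E.inj (by rw [map_mul, map_mul]; exact hCa.mp hwC)) h8 with rfl | rfl
    · exact ⟨0, Subtype.ext (by simp)⟩
    · exact ⟨1, Subtype.ext (by simp [tC, Emb.t])⟩
  have hPeq : (P : Subgroup C) = zpowers tC := by
    refine le_antisymm ?_ hP
    by_contra hne
    haveI := P.2.isNilpotent
    have hlt : (zpowers tC).subgroupOf P < ⊤ := lt_top_iff_ne_top.mpr fun h =>
      hne (subgroupOf_eq_top.mp h)
    obtain ⟨w, hwn, hwS⟩ := SetLike.exists_of_lt (Group.normalizerCondition_of_isNilpotent _ hlt)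
    obtain ⟨k, hk⟩ := P.2 w
    refine hwS (mem_subgroupOf.mpr (htwo w ⟨k, congrArg Subtype.val hk⟩ ?_))
    have h := (mem_normalizer_iff.mp hwn ⟨tC, hP (mem_zpowers _)⟩).mp
      (mem_subgroupOf.mpr (mem_zpowers _))
    rw [mem_subgroupOf] at h
    rcases htt _ h with e | e
    · exact absurd (conj_eq_one_iff.mp e) htC1
    · exact mul_inv_eq_iff_eq_mul.mp e
  have hPc : Nat.card (P : Subgroup C) = 2 := by rw [hPeq, Nat.card_zpowers, htCo]
  have hNC : normalizer ((P : Subgroup C) : Set C) ≤ centralizer ((P : Subgroup C) : Set C) := by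
    intro w hwn
    rw [mem_centralizer_iff]
    intro h hh
    rw [hPeq] at hh hwn
    rcases htt h hh with rfl | rfl
    · simp
    · rcases htt _ ((mem_normalizer_iff.mp hwn tC).mp (mem_zpowers _)) with e | e
      · exact absurd (conj_eq_one_iff.mp e) htC1
      · exact (mul_inv_eq_iff_eq_mul.mp e).symm
  obtain ⟨K₀, hK₀⟩ : ∃ K₀, K₀ = (MonoidHom.transferSylow P hNC).ker := ⟨_, rfl⟩
  have hK₀n : K₀.Normal := hK₀ ▸ inferInstance
  have hodd : ¬ 2 ∣ Nat.card K₀ := hK₀ ▸ MonoidHom.not_dvd_card_ker_transferSylow P hNC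
  have hidx : K₀.index = 2 := by
    rw [hK₀, (MonoidHom.ker_transferSylow_isComplement' P hNC).symm.index_eq_card, hPc]
  have hmem : ∀ w : C, Odd (orderOf w) → w ∈ K₀ := by
    intro w hw
    rw [← QuotientGroup.eq_one_iff, ← orderOf_eq_one_iff]
    have h1 : orderOf (w : C ⧸ K₀) ∣ orderOf w := orderOf_map_dvd (QuotientGroup.mk' K₀) w
    have h2 : orderOf (w : C ⧸ K₀) ∣ 2 := hidx ▸ orderOf_dvd_natCard (w : C ⧸ K₀)
    exact Nat.eq_one_of_dvd_coprimes (Nat.coprime_two_right.mpr hw) h1 h2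
  have hto : tC ∉ K₀ := fun h => hodd (htCo ▸ orderOf_mk tC h ▸ orderOf_dvd_natCard _)
  refine ⟨K₀.map C.subtype, fun x => ⟨?_, ?_⟩, fun x hx => ?_⟩
  · rintro ⟨w, hw, rfl⟩
    refine ⟨hCa.mp w.2, ?_⟩
    rw [C.coe_subtype, orderOf_coe, ← Nat.not_even_iff_odd, even_iff_two_dvd, ← orderOf_mk w hw]
    exact fun h => hodd (h.trans (orderOf_dvd_natCard _))
  · rintro ⟨h1, h2⟩
    exact ⟨⟨x, hCa.mpr h1⟩, hmem _ (by rwa [← orderOf_coe]), rfl⟩
  · let xC : C := ⟨x, hCa.mpr hx⟩
    by_cases hxK : xC ∈ K₀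
    · exact Or.inl ⟨xC, hxK, rfl⟩
    · refine Or.inr ⟨xC * tC, ?_, rfl⟩
      exact (Subgroup.mul_mem_iff_of_index_two hidx).mpr (iff_of_false hxK hto)

variable {E}
variable {K : Subgroup G}

theorem Core.self_mem (hz : GoodElt z) (hK : Core E z K) : E.j z ∈ K :=
  (hK.mem_iff _).mpr ⟨rfl, odd_of_pow_fifteen (by rw [← map_pow, hz.odd, map_one])⟩

/-- Involutions normalising `⟨z⟩` normalise the odd part. -/
theorem Core.conj_mem (hK : Core E z K) {w : G} (hw : w * w = 1)
    (hwz : w * E.j z * w = E.j z ∨ w * E.j z * w = (E.j z)⁻¹) {y : G} (hy : y ∈ K) : w * y * w ∈ K := by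
  obtain ⟨h1, h2⟩ := (hK.mem_iff y).mp hy
  have hwi : w⁻¹ = w := inv_eq_of_mul_eq_one_right hw
  refine (hK.mem_iff _).mpr ⟨?_, ?_⟩
  · rcases hwz with e | e
    · have hc : E.j z * w = w * E.j z := by
        calc E.j z * w = (w * E.j z * w) * w := by rw [e]
          _ = w * E.j z * (w * w) := by group
          _ = w * E.j z := by rw [hw, mul_one]
      calc w * y * w * E.j z = w * (y * E.j z) * w := by rw [mul_assoc (w * y), ← hc]; group
        _ = w * E.j z * (y * w) := by rw [h1]; group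
        _ = E.j z * (w * y * w) := by rw [← hc]; group
    · have h1' : y * (E.j z)⁻¹ = (E.j z)⁻¹ * y := (Commute.inv_right h1).eq
      have hc : w * E.j z = (E.j z)⁻¹ * w := by
        calc w * E.j z = w * E.j z * (w * w) := by rw [hw, mul_one]
          _ = (w * E.j z * w) * w := by group
          _ = _ := by rw [e]
      have hc' : w * (E.j z)⁻¹ = E.j z * w := by
        calc w * (E.j z)⁻¹ = w * (w * E.j z * w) := by rw [e]
          _ = (w * w) * E.j z * w := by group
          _ = E.j z * w := by rw [hw, one_mul]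
      calc w * y * w * E.j z = w * (y * (E.j z)⁻¹) * w := by rw [mul_assoc (w * y), hc]; group
        _ = w * (E.j z)⁻¹ * (y * w) := by rw [h1']; group
        _ = E.j z * (w * y * w) := by rw [hc']; group
  · rw [show w * y * w = MulAut.conj w y by rw [MulAut.conj_apply, hwi], MulEquiv.orderOf_eq]
    exact h2

theorem Core.t_fixed (hz : GoodElt z) (hK : Core E z K) {y : G} (hy : y ∈ K) (ht : y * E.t = E.t * y) :
    ∃ k < 5, y = E.j z ^ k := by
  obtain ⟨m, rfl⟩ := E.mem_range_of_commute ht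
  obtain ⟨h1, h2⟩ := (hK.mem_iff _).mp hy
  rw [orderOf_injective _ E.inj] at h2
  obtain ⟨k, hk, rfl⟩ := hz.cyclic m (E.inj (by rw [map_mul, map_mul]; exact h1)) (pow_fifteen_of_odd h2)
  exact ⟨k, hk, map_pow _ _ _⟩

theorem Core.t_map (hK : Core E z K) {y : G} (hy : y ∈ K) : E.t * y * E.t ∈ K :=
  hK.conj_mem E.t_mul_self (Or.inl (by rw [E.t_commute, mul_assoc, E.t_mul_self, mul_one])) hy

/-- The two involutions `v` and `t v` as indices. -/
def IsSide (k : Fin 8) : Prop := k = 2 ∨ k = 3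

theorem Core.side_map (hz : GoodElt z) (hK : Core E z K) {k : Fin 8} (hk : IsSide k) {y : G} (hy : y ∈ K) :
    E.j (sOf k) * y * E.j (sOf k) ∈ K := by
  refine hK.conj_mem (E.sq_eq_one_of_mem (E.mem_sylow k)) (Or.inr ?_) hy
  rw [← map_mul, ← map_mul, ← map_inv]
  rcases hk with rfl | rfl
  · rw [sOf_two, hz.inv_v]
  · rw [hz.inv_tv]

/-- An element fixed by `v` or by `tv` is inverted by `t`. -/
theorem Core.t_inverts (hz : GoodElt z) (hK : Core E z K) {k : Fin 8} (hk : IsSide k) {y : G} (hy : y ∈ K)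
    (hc : y * E.j (sOf k) = E.j (sOf k) * y) : E.t * y * E.t = y⁻¹ := by
  have hkt : E.t * E.j (sOf k) = E.j (sOf k) * E.t := E.t_commute _
  refine inverts_of_fixed (L := K ⊓ centralizer ({E.j (sOf k)} : Set G)) E.t_mul_self ?_ ?_ y
    ⟨hy, mem_centralizer_singleton_iff.mpr hc⟩
  · rintro x ⟨hx, hxc⟩
    refine ⟨hK.t_map hx, mem_centralizer_singleton_iff.mpr ?_⟩
    have hxc' : x * E.j (sOf k) = E.j (sOf k) * x := mem_centralizer_singleton_iff.mp hxc
    calc E.t * x * E.t * E.j (sOf k) = E.t * (x * E.j (sOf k)) * E.t := by rw [mul_assoc (E.t * x), hkt]; group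
      _ = E.t * E.j (sOf k) * (x * E.t) := by rw [hxc']; group
      _ = E.j (sOf k) * (E.t * x * E.t) := by rw [hkt]; group
  · rintro x ⟨hx, hxc⟩ hxt
    obtain ⟨m, rfl⟩ := E.mem_range_of_commute hxt
    obtain ⟨h1, h2⟩ := (hK.mem_iff _).mp hx
    rw [orderOf_injective _ E.inj] at h2
    have hxc' : m * sOf k = sOf k * m := E.inj (by
      rw [map_mul, map_mul]; exact mem_centralizer_singleton_iff.mp hxc)
    rw [hz.noFix m (E.inj (by rw [map_mul, map_mul]; exact h1)) (pow_fifteen_of_odd h2) ?_, map_one]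
    rcases hk with rfl | rfl
    · exact Or.inl (by rwa [sOf_two] at hxc')
    · exact Or.inr hxc'

/-- An involution without fixed points inverts the odd part. -/
theorem Core.side_inverts (hz : GoodElt z) (hK : Core E z K) {k : Fin 8} (hk : IsSide k)
    (hno : ∀ y ∈ K, y * E.j (sOf k) = E.j (sOf k) * y → y = 1) :
    ∀ y ∈ K, E.j (sOf k) * y * E.j (sOf k) = y⁻¹ :=
  inverts_of_fixed (E.sq_eq_one_of_mem (E.mem_sylow k)) (fun _ hy => hK.side_map hz hk hy) hno

/-- If neither `v` nor `tv` has fixed points, the centraliser of `z` lies in `2 × A₅`. -/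
theorem Core.range_of_no_fixed (hz : GoodElt z) (hK : Core E z K)
    (h2 : ∀ y ∈ K, y * E.j (sOf 2) = E.j (sOf 2) * y → y = 1)
    (h3 : ∀ y ∈ K, y * E.j (sOf 3) = E.j (sOf 3) * y → y = 1) :
    ∀ x : G, x * E.j z = E.j z * x → x ∈ E.j.range := by
  have hfix : ∀ y ∈ K, y ∈ E.j.range := by
    intro y hy
    refine E.mem_range_of_commute ?_
    have e2 := hK.side_inverts hz (Or.inl rfl) h2 y hy
    have e3 := hK.side_inverts hz (Or.inr rfl) h3 _ (inv_mem hy)
    rw [inv_inv, ← e2] at e3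
    have h23 : sOf 3 * sOf 2 = lt ∧ sOf 2 * sOf 3 = lt := by decide +kernel
    have e4 : E.t * y * E.t = y := by
      calc E.t * y * E.t = E.j (sOf 3) * (E.j (sOf 2) * y * E.j (sOf 2)) * E.j (sOf 3) := by
            rw [Emb.t]
            conv_lhs => arg 1; arg 1; rw [← h23.1]
            conv_lhs => arg 2; rw [← h23.2]
            rw [map_mul, map_mul]; group
        _ = y := e3
    calc y * E.t = E.t * y * E.t * E.t := by rw [e4]
      _ = E.t * y := by rw [mul_assoc, E.t_mul_self, mul_one]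
  intro x hx
  rcases hK.cover x hx with h | h
  · exact hfix x h
  · have := mul_mem (hfix _ h) (show E.t ∈ E.j.range from ⟨lt, rfl⟩)
    rwa [mul_assoc, E.t_mul_self, mul_one] at this

/-- Commutators of the odd part lie in `⟨z⟩`. -/
theorem Core.commutator_mem (hz : GoodElt z) (hK : Core E z K) {a b : G} (ha : a ∈ K) (hb : b ∈ K) :
    ∃ k < 5, a⁻¹ * b⁻¹ * a * b = E.j z ^ k := by
  classical
  let zK : K := ⟨E.j z, hK.self_mem hz⟩
  let Z : Subgroup K := zpowers zK
  have hcen : ∀ y : K, y * zK = zK * y := fun y => Subtype.ext ((hK.mem_iff _).mp y.2).1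
  haveI hZn : Z.Normal := ⟨fun n hn g => by
    obtain ⟨i, rfl⟩ := hn
    show g * zK ^ i * g⁻¹ ∈ Z
    rw [(Commute.zpow_right (show Commute g zK from hcen g) i).eq, mul_inv_cancel_right]
    exact ⟨i, rfl⟩⟩
  let φ : K →* K := MonoidHom.mk' (fun y => ⟨E.t * y * E.t, hK.t_map y.2⟩) fun x y => Subtype.ext (by
    show E.t * ((x : G) * y) * E.t = E.t * x * E.t * (E.t * y * E.t)
    calc E.t * ((x : G) * y) * E.t = E.t * x * 1 * y * E.t := by group
      _ = _ := by rw [← E.t_mul_self]; group)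
  have hφz : φ zK = zK := Subtype.ext (show E.t * E.j z * E.t = E.j z by
    rw [E.t_commute, mul_assoc, E.t_mul_self, mul_one])
  have hle : Z ≤ Z.comap φ := by
    rintro _ ⟨i, rfl⟩
    show φ (zK ^ i) ∈ Z
    rw [map_zpow, hφz]
    exact ⟨i, rfl⟩
  let ψ : K ⧸ Z →* K ⧸ Z := QuotientGroup.map Z Z φ hle
  have hodd : ∀ w ∈ Z, w * w = 1 → w = 1 := by
    intro w hw h2
    obtain ⟨i, rfl⟩ := hw
    have h15 : zK ^ (15 : ℕ) = 1 := Subtype.ext (show E.j z ^ 15 = 1 by rw [← map_pow, hz.odd, map_one])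
    simp only at h2 ⊢
    calc zK ^ i = (zK ^ i * zK ^ i) ^ (8 : ℤ) * (zK ^ (15 : ℕ)) ^ (-i) := by
          rw [← zpow_add, ← zpow_mul, ← zpow_natCast zK 15, ← zpow_mul, ← zpow_add]
          congr 1
          push_cast
          ring
      _ = 1 := by rw [h2, h15, one_zpow, one_zpow, one_mul]
  have hφφ : ∀ y, φ (φ y) = y := fun y => Subtype.ext (by
    show E.t * (E.t * y * E.t) * E.t = (y : G)
    calc E.t * (E.t * y * E.t) * E.t = (E.t * E.t) * y * (E.t * E.t) := by group
      _ = y := by rw [E.t_mul_self, one_mul, mul_one])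
  have hψ : MonoidHom.FixedPointFree ψ := by
    intro q hq
    induction q using QuotientGroup.induction_on with
    | H y =>
      change ((φ y : K) : K ⧸ Z) = y at hq
      rw [QuotientGroup.eq] at hq
      have hy : (φ y)⁻¹ * y = 1 := by
        refine hodd _ hq ?_
        have h1 : φ ((φ y)⁻¹ * y) = (φ y)⁻¹ * y := by
          obtain ⟨i, hi⟩ := hq
          simp only at hi
          rw [← hi, map_zpow, hφz]
        rw [map_mul, map_inv, hφφ] at h1
        calc (φ y)⁻¹ * y * ((φ y)⁻¹ * y) = (φ y)⁻¹ * y * (y⁻¹ * φ y) := by rw [h1]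
          _ = 1 := by group
      rw [inv_mul_eq_one] at hy
      rw [QuotientGroup.eq_one_iff]
      have hyG : E.t * (y : G) * E.t = y := congrArg Subtype.val hy
      obtain ⟨k, -, hk⟩ := hK.t_fixed hz y.2 (by
        calc (y : G) * E.t = E.t * y * E.t * E.t := by rw [hyG]
          _ = E.t * y := by rw [mul_assoc, E.t_mul_self, mul_one])
      exact ⟨k, Subtype.ext (by simp [zK, hk])⟩
  have hinv : Function.Involutive ψ := by
    intro q
    induction q using QuotientGroup.induction_on with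
    | H y => show ((φ (φ y) : K) : K ⧸ Z) = y; rw [hφφ]
  have hcomm := MonoidHom.FixedPointFree.commute_all_of_involutive hψ hinv
  have hq : (((⟨a, ha⟩ : K)⁻¹ * (⟨b, hb⟩ : K)⁻¹ * ⟨a, ha⟩ * ⟨b, hb⟩ : K) : K ⧸ Z) = 1 := by
    push_cast [QuotientGroup.mk_mul, QuotientGroup.mk_inv]
    rw [← mul_inv_rev, mul_assoc, (hcomm ((⟨a, ha⟩ : K) : K ⧸ Z) ((⟨b, hb⟩ : K) : K ⧸ Z)).eq, inv_mul_cancel]
  rw [QuotientGroup.eq_one_iff] at hq
  have hf5 : ∀ w ∈ Z, ∃ k < 5, (w : G) = E.j z ^ k := fun w hw => by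
    obtain ⟨i, rfl⟩ := hw
    obtain ⟨k, hk, he⟩ := hz.cyclic (z ^ i) ((Commute.zpow_self z i).eq)
      (by rw [← zpow_natCast, ← zpow_mul, mul_comm, zpow_mul, zpow_natCast, hz.odd, one_zpow])
    exact ⟨k, hk, by simp [zK, ← map_zpow, he]⟩
  obtain ⟨k, hk, he⟩ := hf5 _ hq
  exact ⟨k, hk, he⟩

end Core

end CfsgLib.J1Recog
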