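import Cfsg.Agent.Lib.Sporadic.J1.Recog.Model
import Mathlib.GroupTheory.Sylow
import Mathlib.GroupTheory.Transfer
import Mathlib.GroupTheory.Abelianization.Finite
import Cfsg.Agent.Lib.Fusion.ThompsonTransfer

/-!
# The normaliser of a Sylow 2-subgroup in a group with involution centraliser 2 × A₅
-/

set_option autoImplicit false
set_option maxRecDepth 8000

namespace CfsgLib.J1Recog

open Subgroup

/-- An embedding of `2 × A₅` as an involution centraliser of a group with Sylow 2-subgroups of order 8. -/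
structure Emb (G : Type*) [Group G] where
  j : M →* G
  inj : Function.Injective j
  range_eq : centralizer ({j lt} : Set G) = j.range
  not_sixteen : ¬ 16 ∣ Nat.card G

/-- The standard elements of the Sylow 2-subgroup. -/
def sOf (k : Fin 8) : M :=
  (if k.val % 2 = 1 then lt else 1) * (if k.val / 2 % 2 = 1 then lv else 1) *
    (if k.val / 4 % 2 = 1 then lv2 else 1)

/-- Addition of indices. -/
def xorF (a b : Fin 8) : Fin 8 := ⟨(a.val ^^^ b.val) % 8, Nat.mod_lt _ (by norm_num)⟩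

/-- The linear map with prescribed images of the basis. -/
def lin (a b c : Fin 8) (k : Fin 8) : Fin 8 :=
  xorF (xorF (if k.val % 2 = 1 then a else 0) (if k.val / 2 % 2 = 1 then b else 0))
    (if k.val / 4 % 2 = 1 then c else 0)

/-- The action of `c`. -/
def Lc : Fin 8 → Fin 8 := lin 1 4 6
/-- The action of `f`. -/
def F0 : Fin 8 → Fin 8 := lin 2 4 3
/-- The other possible action. -/
def F1 : Fin 8 → Fin 8 := lin 2 6 5
/-- The outer involution on indices. -/
def sg : Fin 8 → Fin 8 := lin 1 2 6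

theorem sOf_mul : ∀ a b, sOf a * sOf b = sOf (xorF a b) := by decide +kernel
theorem sOf_inv : ∀ a, (sOf a)⁻¹ = sOf a := by decide +kernel
theorem sOf_zero : sOf 0 = 1 := by decide +kernel
theorem sOf_injective : Function.Injective sOf := by decide +kernel
theorem sOf_one : sOf 1 = lt := by decide +kernel
theorem sOf_two : sOf 2 = lv := by decide +kernel
theorem sOf_four : sOf 4 = lv2 := by decide +kernel

theorem exists_sOf_of_commute (m : M) (h1 : m * lv = lv * m) (h2 : m * lv2 = lv2 * m) :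
    ∃ k, sOf k = m := by
  have key : ∀ c ∈ codeList, mulC c (code lv) = mulC (code lv) c → mulC c (code lv2) = mulC (code lv2) c →
      ∃ k : Fin 8, code (sOf k) = c := by decide +kernel
  obtain ⟨k, hk⟩ := key _ (code_mem m) (by rw [← code_mul, ← code_mul, h1])
    (by rw [← code_mul, ← code_mul, h2])
  exact ⟨k, code_injective hk⟩

/-- The automorphism given by conjugation with the transposition `(0 1)`. -/
def sigma : M ≃* M :=
  MulEquiv.prodCongr (MulEquiv.refl _)
    (MulAut.conjNormal (H := alternatingGroup (Fin 5)) (Equiv.swap 0 1))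

theorem sigma_sOf : ∀ k, sigma (sOf k) = sOf (sg k) := by decide +kernel
theorem sigma_sigma : ∀ m : M, sigma (sigma m) = m := by decide +kernel
theorem sigma_lt : sigma lt = lt := by decide +kernel
theorem sg_conj : sg ∘ F1 ∘ sg = F0 := by decide +kernel
theorem lc_conj_sOf : ∀ k, lc * sOf k * lc⁻¹ = sOf (Lc k) := by decide +kernel
theorem Lc_conj : (Lc ∘ F0 ∘ Lc^[2])^[4] = F0 := by decide +kernel
theorem F0_fixed : ∀ k, F0 k = k → k = 0 := by decide +kernel
theorem F0_seven : F0^[7] = id := by decide +kernel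
theorem lin_period : ∀ a b c : Fin 8, (∀ x, lin a b c x = 0 → x = 0) → (lin a b c)^[168] = id := by
  decide +kernel

/-- The group of index data: a linear map of order dividing 21 moving `t`, all of whose products with powers
of `c` have order dividing 21, has a power times a power of `c` equal to one of two maps of order 7. -/
theorem lin_cases : ∀ a b c : Fin 8, a ≠ 1 → (∀ x, lin a b c x = 0 → x = 0) →
    (∀ i : Fin 3, (lin a b c ∘ Lc^[i.val])^[21] = id) →
      ∃ i : Fin 3, ∃ k : Fin 7, (lin a b c ∘ Lc^[i.val])^[k.val] = F0 ∨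
        (lin a b c ∘ Lc^[i.val])^[k.val] = F1 := by
  decide +kernel

variable {G : Type*} [Group G] (E : Emb G)

/-- The distinguished involution. -/
def Emb.t : G := E.j lt

theorem Emb.t_mul_self : E.t * E.t = 1 := by
  rw [Emb.t, ← map_mul, show lt * lt = 1 by decide +kernel, map_one]

theorem Emb.t_ne_one : E.t ≠ 1 := fun h =>
  (show lt ≠ 1 by decide +kernel) (E.inj (h.trans (map_one E.j).symm))

theorem Emb.mem_range_of_commute {x : G} (h : x * E.t = E.t * x) : x ∈ E.j.range := by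
  rw [← E.range_eq]
  exact mem_centralizer_singleton_iff.mpr h

theorem Emb.t_commute (m : M) : E.t * E.j m = E.j m * E.t := by
  rw [Emb.t, ← map_mul, ← map_mul]
  congr 1
  exact Prod.ext (mul_comm _ _) (by simp [lt])

theorem Emb.card_centralizer : Nat.card (centralizer ({E.t} : Set G)) = 120 := by
  rw [show centralizer ({E.t} : Set G) = E.j.range from E.range_eq,
    ← Nat.card_congr (MonoidHom.ofInjective E.inj).toEquiv, Nat.card_eq_fintype_card, card_M]

/-- The twisted embedding. -/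
def Emb.twist : Emb G where
  j := E.j.comp sigma.toMonoidHom
  inj := E.inj.comp sigma.injective
  range_eq := by
    show centralizer ({E.j (sigma lt)} : Set G) = _
    rw [sigma_lt, E.range_eq, MonoidHom.range_comp,
      MonoidHom.range_eq_top.mpr (show Function.Surjective sigma.toMonoidHom from sigma.surjective),
      ← MonoidHom.range_eq_map]
  not_sixteen := E.not_sixteen

/-- Conjugate embedding. -/
def Emb.conj (g : G) : Emb G where
  j := (MulAut.conj g).toMonoidHom.comp E.j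
  inj := (MulAut.conj g).injective.comp E.inj
  range_eq := by
    ext x
    rw [mem_centralizer_singleton_iff]
    simp only [MonoidHom.mem_range, MonoidHom.coe_comp, MulEquiv.coe_toMonoidHom, Function.comp_apply,
      MulAut.conj_apply]
    constructor
    · intro hx
      obtain ⟨m, hm⟩ := E.mem_range_of_commute (x := g⁻¹ * x * g) (show g⁻¹ * x * g * E.t =
        E.t * (g⁻¹ * x * g) by
          calc g⁻¹ * x * g * E.t = g⁻¹ * (x * (g * E.t * g⁻¹)) * g := by group
            _ = g⁻¹ * (g * E.t * g⁻¹ * x) * g := by rw [Emb.t, hx]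
            _ = E.t * (g⁻¹ * x * g) := by group)
      exact ⟨m, by rw [hm]; group⟩
    · rintro ⟨m, rfl⟩
      calc g * E.j m * g⁻¹ * (g * E.j lt * g⁻¹) = g * (E.j m * E.t) * g⁻¹ := by rw [Emb.t]; group
        _ = g * (E.t * E.j m) * g⁻¹ := by rw [E.t_commute]
        _ = g * E.j lt * g⁻¹ * (g * E.j m * g⁻¹) := by rw [Emb.t]; group
  not_sixteen := E.not_sixteen

/-- The standard Sylow 2-subgroup. -/
def Emb.sylow : Subgroup G where
  carrier := Set.range fun k => E.j (sOf k)
  mul_mem' := by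
    rintro _ _ ⟨a, rfl⟩ ⟨b, rfl⟩
    exact ⟨xorF a b, by simp only [← map_mul, sOf_mul]⟩
  one_mem' := ⟨0, by simp only [sOf_zero, map_one]⟩
  inv_mem' := by
    rintro _ ⟨a, rfl⟩
    exact ⟨a, by simp only [← map_inv, sOf_inv]⟩

theorem Emb.mem_sylow (k : Fin 8) : E.j (sOf k) ∈ E.sylow := ⟨k, rfl⟩

theorem Emb.card_sylow : Nat.card E.sylow = 8 := by
  have := Nat.card_range_of_injective (f := fun k => E.j (sOf k)) (E.inj.comp sOf_injective)
  rw [Nat.card_fin] at this
  exact this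

theorem Emb.sq_eq_one_of_mem {z : G} (hz : z ∈ E.sylow) : z * z = 1 := by
  obtain ⟨k, rfl⟩ := hz
  rw [← map_mul, show sOf k * sOf k = 1 by
    conv_lhs => arg 1; rw [← sOf_inv k]
    exact inv_mul_cancel _, map_one]

theorem Emb.commute_of_mem {z w : G} (hz : z ∈ E.sylow) (hw : w ∈ E.sylow) : z * w = w * z := by
  obtain ⟨k, rfl⟩ := hz
  obtain ⟨l, rfl⟩ := hw
  have h : ∀ a b, sOf a * sOf b = sOf b * sOf a := by decide +kernel
  show E.j (sOf k) * E.j (sOf l) = E.j (sOf l) * E.j (sOf k)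
  rw [← map_mul, ← map_mul, h]

/-- `n` acts on the standard Sylow subgroup as the index map `L`. -/
def Emb.Acts (n : G) (L : Fin 8 → Fin 8) : Prop :=
  ∀ k, n * E.j (sOf k) * n⁻¹ = E.j (sOf (L k))

theorem Emb.Acts.mul {n m : G} {L L' : Fin 8 → Fin 8} (h : E.Acts n L) (h' : E.Acts m L') :
    E.Acts (n * m) (L ∘ L') := fun k => by
  calc n * m * E.j (sOf k) * (n * m)⁻¹ = n * (m * E.j (sOf k) * m⁻¹) * n⁻¹ := by group
    _ = _ := by rw [h', h]; rfl

theorem Emb.acts_one : E.Acts 1 id := fun k => by group; rfl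

theorem Emb.Acts.pow {n : G} {L : Fin 8 → Fin 8} (h : E.Acts n L) : ∀ i, E.Acts (n ^ i) (L^[i])
  | 0 => by rw [pow_zero]; exact E.acts_one
  | i + 1 => by
    rw [pow_succ', Function.iterate_succ']
    exact h.mul E (Emb.Acts.pow h i)

theorem Emb.Acts.unique {n : G} {L L' : Fin 8 → Fin 8} (h : E.Acts n L) (h' : E.Acts n L') : L = L' :=
  funext fun k => sOf_injective (E.inj ((h k).symm.trans (h' k)))

theorem Emb.Acts.eq_zero {n : G} {L : Fin 8 → Fin 8} (h : E.Acts n L) {k : Fin 8} (hk : L k = 0) :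
    k = 0 := by
  have := h k
  rw [hk, sOf_zero, map_one, mul_inv_eq_one] at this
  exact sOf_injective (E.inj (by rw [sOf_zero, map_one]; exact mul_eq_left.mp this))

theorem Emb.acts_lc : E.Acts (E.j lc) Lc := fun k => by
  rw [← map_inv, ← map_mul, ← map_mul, lc_conj_sOf]

theorem Emb.acts_of_mem {z : G} (hz : z ∈ E.sylow) : E.Acts z id := fun k => by
  rw [E.commute_of_mem hz (E.mem_sylow k), mul_inv_cancel_right]
  rfl

theorem Emb.mem_sylow_of_acts_id {n : G} (h : E.Acts n id) : n ∈ E.sylow := by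
  have h1 : n * E.t = E.t * n := by
    have := h 1
    simp only [id, sOf_one] at this
    exact mul_inv_eq_iff_eq_mul.mp this
  obtain ⟨m, rfl⟩ := E.mem_range_of_commute h1
  have hc : ∀ k, m * sOf k = sOf k * m := fun k => E.inj (by
    rw [map_mul, map_mul]; exact mul_inv_eq_iff_eq_mul.mp (h k))
  obtain ⟨k, rfl⟩ := exists_sOf_of_commute m (by simpa [sOf_two] using hc 2) (by simpa [sOf_four] using hc 4)
  exact E.mem_sylow k

theorem Emb.exists_acts_of_normalizer {n : G} (hn : n ∈ normalizer (E.sylow : Set G)) :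
    ∃ a b c, E.Acts n (lin a b c) := by
  obtain ⟨a, ha⟩ := (mem_normalizer_iff.mp hn _).mp (E.mem_sylow 1)
  obtain ⟨b, hb⟩ := (mem_normalizer_iff.mp hn _).mp (E.mem_sylow 2)
  obtain ⟨c, hc⟩ := (mem_normalizer_iff.mp hn _).mp (E.mem_sylow 4)
  have hdec : ∀ k : Fin 8, sOf k = (if k.val % 2 = 1 then sOf 1 else 1) *
      (if k.val / 2 % 2 = 1 then sOf 2 else 1) * (if k.val / 4 % 2 = 1 then sOf 4 else 1) := by
    decide +kernel
  have hlin : ∀ a b c k : Fin 8, sOf (lin a b c k) = (if k.val % 2 = 1 then sOf a else 1) *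
      (if k.val / 2 % 2 = 1 then sOf b else 1) * (if k.val / 4 % 2 = 1 then sOf c else 1) := by
    intro a b c k
    simp only [lin, ← sOf_mul, apply_ite sOf, sOf_zero]
  refine ⟨a, b, c, fun k => ?_⟩
  rw [hdec k, hlin, map_mul, map_mul, map_mul, map_mul, apply_ite E.j, apply_ite E.j, apply_ite E.j,
    apply_ite E.j, apply_ite E.j, apply_ite E.j, map_one]
  simp only at ha hb hc
  rw [show ∀ x y z : G, n * (x * y * z) * n⁻¹ = (n * x * n⁻¹) * (n * y * n⁻¹) * (n * z * n⁻¹) from
    fun x y z => by group]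
  congr 1
  · congr 1
    · split_ifs
      · exact ha.symm
      · group
    · split_ifs
      · exact hb.symm
      · group
  · split_ifs
    · exact hc.symm
    · group

variable [Finite G]

theorem Emb.exists_sylow : ∃ P : Sylow 2 G, (P : Subgroup G) = E.sylow := by
  haveI : Fact (Nat.Prime 2) := ⟨Nat.prime_two⟩
  obtain ⟨P, hP⟩ := (IsPGroup.of_card (p := 2) (n := 3) (G := E.sylow)
    (by rw [E.card_sylow]; norm_num)).exists_le_sylow
  refine ⟨P, (eq_of_le_of_card_ge hP ?_).symm⟩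
  obtain ⟨k, hk⟩ := IsPGroup.iff_card.mp P.isPGroup'
  have hd : 2 ^ k ∣ Nat.card G := hk ▸ card_subgroup_dvd_card _
  rw [E.card_sylow, hk]
  rcases Nat.lt_or_ge k 4 with h | h
  · calc 2 ^ k ≤ 2 ^ 3 := Nat.pow_le_pow_right (by norm_num) (by omega)
      _ = 8 := by norm_num
  · exact absurd ((pow_dvd_pow 2 h).trans hd) E.not_sixteen

/-- A 2-element normalising the standard Sylow subgroup lies in it. -/
theorem Emb.mem_sylow_of_two_element {z : G} (hz : z ∈ normalizer (E.sylow : Set G)) {k : ℕ}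
    (h2 : z ^ (2 ^ k) = 1) : z ∈ E.sylow := by
  haveI : Fact (Nat.Prime 2) := ⟨Nat.prime_two⟩
  obtain ⟨P, hP⟩ := E.exists_sylow
  have hp : IsPGroup 2 (zpowers z) := by
    obtain ⟨i, -, hi⟩ := (Nat.dvd_prime_pow Nat.prime_two).mp (orderOf_dvd_of_pow_eq_one h2)
    exact IsPGroup.of_card (n := i) (by rw [Nat.card_zpowers, hi])
  have hsup : IsPGroup 2 (zpowers z ⊔ (P : Subgroup G) : Subgroup G) :=
    hp.to_sup_of_normal_right' P.isPGroup' (by rw [hP]; exact zpowers_le.mpr hz)
  have := P.is_maximal' hsup le_sup_right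
  rw [← hP]
  exact this ▸ mem_sup_left (mem_zpowers z)

theorem Emb.Acts.mem_normalizer {n : G} {L : Fin 8 → Fin 8} (h : E.Acts n L) :
    n ∈ normalizer (E.sylow : Set G) := by
  have hle : E.sylow.map (MulAut.conj n).toMonoidHom ≤ E.sylow := by
    rintro _ ⟨_, ⟨k, rfl⟩, rfl⟩
    exact ⟨L k, (h k).symm⟩
  have heq : E.sylow.map (MulAut.conj n).toMonoidHom = E.sylow :=
    eq_of_le_of_card_ge hle (by rw [card_map_of_injective (MulAut.conj n).injective])
  rw [mem_normalizer_iff]
  intro x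
  constructor
  · intro hx
    exact hle ⟨x, hx, rfl⟩
  · intro hx
    rw [← heq] at hx
    obtain ⟨y, hy, e⟩ := hx
    have : y = x := (MulAut.conj n).injective e
    exact this ▸ hy

/-- Elements of the normaliser act with order dividing 21. -/
theorem Emb.acts_iterate {n : G} {a b c : Fin 8} (h : E.Acts n (lin a b c)) :
    (lin a b c)^[21] = id := by
  obtain ⟨k, r, hr2, hkr⟩ : ∃ k r, ¬ 2 ∣ r ∧ orderOf n = 2 ^ k * r := by
    obtain ⟨k, r, h1, h2⟩ := Nat.exists_eq_pow_mul_and_not_dvd (orderOf_pos n).ne' 2 (by norm_num)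
    exact ⟨k, r, h1, h2⟩
  have hmem : n ^ r ∈ E.sylow := E.mem_sylow_of_two_element ((h.pow E r).mem_normalizer E)
    (k := k) (by rw [← pow_mul, mul_comm, ← hkr, pow_orderOf_eq_one])
  have h1 : (lin a b c)^[r] = id := (h.pow E r).unique E (E.acts_of_mem hmem)
  have h168 := lin_period a b c fun x hx => h.eq_zero E hx
  funext x
  have p1 : Function.IsPeriodicPt (lin a b c) r x := congrFun h1 x
  have p2 : Function.IsPeriodicPt (lin a b c) 168 x := congrFun h168 x
  have hg : Nat.gcd r 168 ∣ 21 := by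
    have hcop : Nat.Coprime (Nat.gcd r 168) 8 := by
      have : Nat.Coprime r 8 := by
        rw [show (8 : ℕ) = 2 ^ 3 by norm_num]
        exact Nat.Coprime.pow_right 3 ((Nat.prime_two.coprime_iff_not_dvd.mpr hr2).symm)
      exact this.coprime_dvd_left (Nat.gcd_dvd_left _ _)
    exact hcop.dvd_of_dvd_mul_left (show Nat.gcd r 168 ∣ 8 * 21 from Nat.gcd_dvd_right r 168)
  exact (p1.gcd p2).trans_dvd hg

/-- The complement of `t` in the standard Sylow subgroup. -/
def Emb.sylowHalf : Subgroup G where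
  carrier := Set.range fun i : Fin 4 => E.j (sOf ⟨2 * i.val, by omega⟩)
  mul_mem' := by
    rintro _ _ ⟨a, rfl⟩ ⟨b, rfl⟩
    have key : ∀ a b : Fin 4, ∃ c : Fin 4, sOf ⟨2 * a.val, by omega⟩ * sOf ⟨2 * b.val, by omega⟩ =
        sOf ⟨2 * c.val, by omega⟩ := by decide +kernel
    obtain ⟨c, hc⟩ := key a b
    exact ⟨c, by simp only [← map_mul, hc]⟩
  one_mem' := ⟨0, by
    show E.j (sOf 0) = 1
    rw [sOf_zero, map_one]⟩
  inv_mem' := by
    rintro _ ⟨a, rfl⟩
    exact ⟨a, by simp only [← map_inv, sOf_inv]⟩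

include E in
/-- A group without normal subgroups of index 2 has an element of the normaliser moving `t`. -/
theorem Emb.exists_move (h2 : ∀ N : Subgroup G, N.Normal → N.index ≠ 2) :
    ∃ n ∈ normalizer (E.sylow : Set G), n * E.t * n⁻¹ ≠ E.t := by
  haveI : Fact (Nat.Prime 2) := ⟨Nat.prime_two⟩
  obtain ⟨P, hP⟩ := E.exists_sylow
  have hhalf : E.sylowHalf ≤ E.sylow := by
    rintro _ ⟨i, rfl⟩
    exact E.mem_sylow _
  have hcard : Nat.card E.sylowHalf = 4 := by
    have := Nat.card_range_of_injective (f := fun i : Fin 4 => E.j (sOf ⟨2 * i.val, by omega⟩))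
      (E.inj.comp (sOf_injective.comp fun a b h => Fin.ext (by simp only [Fin.mk.injEq] at h; omega)))
    rw [Nat.card_fin] at this
    exact this
  have hrel : E.sylowHalf.relIndex E.sylow = 2 := by
    have h := (E.sylowHalf.subgroupOf E.sylow).card_mul_index
    rw [Nat.card_congr (subgroupOfEquivOfLe hhalf).toEquiv, hcard, E.card_sylow] at h
    show (E.sylowHalf.subgroupOf E.sylow).index = 2
    omega
  have hodd : Odd (E.sylow : Subgroup G).index := by
    rw [← hP, ← Nat.not_even_iff_odd, even_iff_two_dvd]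
    exact P.not_dvd_index
  obtain ⟨g, hg⟩ : ∃ g : G, g * E.t * g⁻¹ ∈ E.sylowHalf := by
    by_contra hno
    push Not at hno
    obtain ⟨N, hN, hN2, -⟩ := ThompsonTransfer.exists_normal_index_two E.sylow E.sylowHalf hodd hrel E.t
      (by rw [pow_two, E.t_mul_self]) hno
    exact h2 N hN hN2
  haveI hc : IsMulCommutative (P : Subgroup G) :=
    ⟨⟨fun a b => Subtype.ext (E.commute_of_mem (hP ▸ a.2) (hP ▸ b.2))⟩⟩
  have htP : E.t ∈ (P : Subgroup G) := by rw [hP]; rw [Emb.t, ← sOf_one]; exact E.mem_sylow 1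
  have hgP : (g⁻¹)⁻¹ * E.t * g⁻¹ ∈ (P : Subgroup G) := by rw [hP, inv_inv]; exact hhalf hg
  obtain ⟨n, hn, he⟩ := P.conj_eq_normalizer_conj_of_mem E.t g⁻¹ htP hgP
  refine ⟨n⁻¹, inv_mem (hP ▸ hn), fun heq => ?_⟩
  rw [inv_inv] at heq he
  rw [he, heq] at hg
  obtain ⟨i, hi⟩ := hg
  have h1 := sOf_injective (E.inj (hi.trans (show E.t = E.j (sOf 1) by rw [sOf_one]; rfl)))
  simp [Fin.ext_iff] at h1

/-- A perfect group has no normal subgroup of index 2. -/
theorem index_ne_two_of_perfect {H : Type*} [Group H] (hperf : commutator H = ⊤) :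
    ∀ N : Subgroup H, N.Normal → N.index ≠ 2 := by
  intro N hN h2
  haveI : Fact (Nat.Prime 2) := ⟨Nat.prime_two⟩
  haveI : IsCyclic (H ⧸ N) := isCyclic_of_prime_card (p := 2) h2
  have hle : commutator H ≤ N :=
    Subgroup.Normal.quotient_commutative_iff_commutator_le.mp IsCyclic.commutative
  rw [hperf, top_le_iff] at hle
  rw [hle, Subgroup.index_top] at h2
  norm_num at h2

theorem Emb.pow_seven_of_acts {x : G} (h : E.Acts x F0) : x ^ 7 = 1 := by
  have h7 := h.pow E 7
  rw [F0_seven] at h7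
  obtain ⟨k, hk⟩ := E.mem_sylow_of_acts_id h7
  have hk0 : F0 k = k := sOf_injective (E.inj (by
    rw [← h k]
    simp only at hk
    rw [hk]
    group))
  simp only at hk
  rw [← hk, F0_fixed k hk0, sOf_zero, map_one]

include E in
/-- The element of order 7 completing the amalgam. -/
theorem Emb.exists_amal (h2 : ∀ N : Subgroup G, N.Normal → N.index ≠ 2) :
    ∃ (E' : Emb G) (f : G), IsAmal E'.j f := by
  obtain ⟨n, hn, hnt⟩ := E.exists_move h2
  obtain ⟨a, b, c, hL⟩ := E.exists_acts_of_normalizer hn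
  have ha : a ≠ 1 := fun h => hnt (by
    have := hL 1
    rw [sOf_one, show lin a b c 1 = a by
      have : ∀ a b c : Fin 8, lin a b c 1 = a := by decide +kernel
      exact this a b c, h, sOf_one] at this
    exact this)
  have hall : ∀ i : Fin 3, (lin a b c ∘ Lc^[i.val])^[21] = id := by
    intro i
    have h := hL.mul E (E.acts_lc.pow E i.val)
    obtain ⟨a', b', c', h'⟩ := E.exists_acts_of_normalizer (h.mem_normalizer E)
    rw [h.unique E h']
    exact E.acts_iterate h'
  obtain ⟨i, k, hF⟩ := lin_cases a b c ha (fun x hx => hL.eq_zero E hx) hall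
  have hx := (hL.mul E (E.acts_lc.pow E i.val)).pow E k.val
  obtain ⟨E', hE'⟩ : ∃ E' : Emb G, ∃ x : G, E'.Acts x F0 := by
    rcases hF with h | h
    · exact ⟨E, _, h ▸ hx⟩
    · refine ⟨E.twist, (n * E.j lc ^ i.val) ^ k.val, fun l => ?_⟩
      show _ * E.j (sigma (sOf l)) * _ = E.j (sigma (sOf (F0 l)))
      rw [sigma_sOf, sigma_sOf, hx (sg l), h]
      congr 2
      have h1 : ∀ l, F1 (sg l) = sg (F0 l) := by decide +kernel
      exact h1 l
  obtain ⟨x₀, hx₀⟩ := hE'
  -- a fixed point of `x ↦ (c x c⁻¹)⁴` among the elements acting as `F0`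
  let X := {x : G // E'.Acts x F0}
  have hXc : Nat.card X = 8 := by
    rw [← E'.card_sylow]
    refine (Nat.card_eq_of_bijective (fun z : E'.sylow => (⟨x₀ * z, ?_⟩ : X)) ⟨?_, ?_⟩).symm
    · exact hx₀.mul E' (E'.acts_of_mem z.2)
    · intro z w h
      exact Subtype.ext (mul_left_cancel (congrArg Subtype.val h))
    · rintro ⟨x, hx⟩
      refine ⟨⟨x₀⁻¹ * x, E'.mem_sylow_of_acts_id fun l => ?_⟩, Subtype.ext (mul_inv_cancel_left x₀ x)⟩
      calc x₀⁻¹ * x * E'.j (sOf l) * (x₀⁻¹ * x)⁻¹ = x₀⁻¹ * (x * E'.j (sOf l) * x⁻¹) * x₀ := by group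
        _ = x₀⁻¹ * (x₀ * E'.j (sOf l) * x₀⁻¹) * x₀ := by rw [hx l, hx₀ l]
        _ = E'.j (sOf (id l)) := by group; rfl
  set cc := E'.j lc with hcc
  have hc3 : cc * cc * cc = 1 := by rw [hcc, ← map_mul, ← map_mul, show lc * lc * lc = 1 by decide +kernel, map_one]
  have hci : E'.Acts cc⁻¹ (Lc^[2]) := by
    have h := E'.acts_lc.pow E' 2
    rwa [show E'.j lc ^ 2 = cc⁻¹ by rw [sq]; exact eq_inv_of_mul_eq_one_left hc3] at h
  let φ : X → X := fun x => ⟨(cc * x.1 * cc⁻¹) ^ 4, by
    have h := ((E'.acts_lc.mul E' x.2).mul E' hci).pow E' 4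
    rwa [show (Lc ∘ F0) ∘ Lc^[2] = Lc ∘ F0 ∘ Lc^[2] from rfl, Lc_conj] at h⟩
  have h7 : ∀ x : X, x.1 ^ 7 = 1 := fun x => E'.pow_seven_of_acts x.2
  have hφ3 : ∀ x, φ (φ (φ x)) = x := by
    intro x
    apply Subtype.ext
    show (cc * (cc * (cc * x.1 * cc⁻¹) ^ 4 * cc⁻¹) ^ 4 * cc⁻¹) ^ 4 = x.1
    simp only [conj_pow, ← pow_mul]
    rw [show cc * (cc * (cc * x.1 ^ (4 * 4 * 4) * cc⁻¹) * cc⁻¹) * cc⁻¹ =
      (cc * cc * cc) * x.1 ^ (4 * 4 * 4) * (cc * cc * cc)⁻¹ by group, hc3, one_mul, inv_one, mul_one,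
      show 4 * 4 * 4 = 7 * 9 + 1 by norm_num, pow_succ, pow_mul, h7, one_pow, one_mul]
  let σ : Equiv.Perm X := ⟨φ, φ ∘ φ, hφ3, hφ3⟩
  haveI : Fact (Nat.Prime 3) := ⟨Nat.prime_three⟩
  haveI : Fintype X := Fintype.ofFinite X
  have hσ : σ ^ (3 ^ 1) = 1 := by
    ext x
    show ((σ ^ 3) x).1 = x.1
    rw [show σ ^ 3 = σ * σ * σ by rw [pow_succ, sq]]
    exact congrArg Subtype.val (hφ3 x)
  obtain ⟨x, hx⟩ := Equiv.Perm.exists_fixed_point_of_prime (p := 3) (n := 1)
    (by rw [← Nat.card_eq_fintype_card, hXc]; norm_num) hσ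
  have hfix : (cc * x.1 * cc⁻¹) ^ 4 = x.1 := congrArg Subtype.val hx
  have h1 := x.2 1
  have h2 := x.2 2
  have h4 := x.2 4
  rw [sOf_one, show F0 1 = 2 by decide +kernel, sOf_two] at h1
  rw [sOf_two, show F0 2 = 4 by decide +kernel, sOf_four] at h2
  rw [sOf_four, show F0 4 = 3 by decide +kernel, show sOf 3 = lt * lv by decide +kernel] at h4
  refine ⟨E', x.1, h7 x, ?_, h1, h2, h4⟩
  have hy7 : (cc * x.1 * cc⁻¹) ^ 7 = 1 := by rw [conj_pow, h7]; group
  calc E'.j lc * x.1 * (E'.j lc)⁻¹ = (cc * x.1 * cc⁻¹) ^ 8 := by rw [pow_succ, hy7, one_mul]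
    _ = ((cc * x.1 * cc⁻¹) ^ 4) ^ 2 := by rw [← pow_mul]
    _ = x.1 * x.1 := by rw [hfix, sq]

end CfsgLib.J1Recog
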