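import Cfsg.Agent.Lib.CosetEnum.LetterCert
import Mathlib.GroupTheory.SpecificGroups.Alternating
import Mathlib.Data.ZMod.Basic
import Mathlib.GroupTheory.GroupAction.ConjAct

/-!
# The group 2 × A₅ and the amalgam with the normaliser of its Sylow 2-subgroup in the first Janko group

Letters: `0`, `1` a three-cycle `c` and its inverse, `2` the central involution `t`, `3` the involution
`v = (0 1)(2 3)`, `4`, `5` a five-cycle `d` and its inverse, `6`, `7` the element `f` of order 7 and its inverse.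
-/

set_option autoImplicit false
set_option maxRecDepth 8000

namespace CfsgLib.J1Recog

open CfsgLib.CosetEnum

/-- The group `2 × A₅`. -/
abbrev M : Type := Multiplicative (ZMod 2) × alternatingGroup (Fin 5)

/-- The code of an element. -/
def code (g : M) : ℕ :=
  (Multiplicative.toAdd g.1).val + 2 * ((g.2 : Equiv.Perm (Fin 5)) 0).val +
    16 * ((g.2 : Equiv.Perm (Fin 5)) 1).val + 128 * ((g.2 : Equiv.Perm (Fin 5)) 2).val +
    1024 * ((g.2 : Equiv.Perm (Fin 5)) 3).val + 8192 * ((g.2 : Equiv.Perm (Fin 5)) 4).val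

/-- The image of a point under a coded permutation. -/
def dig (c i : ℕ) : ℕ := c / (2 * 8 ^ i) % 8

/-- Multiplication of codes. -/
def mulC (x y : ℕ) : ℕ :=
  (x % 2 + y % 2) % 2 + 2 * dig x (dig y 0) + 16 * dig x (dig y 1) + 128 * dig x (dig y 2) +
    1024 * dig x (dig y 3) + 8192 * dig x (dig y 4)

/-- The codes of the 120 elements. -/
def codeList : List ℕ := 
  [36112, 35874, 35972, 36113, 35202, 4514, 26760, 35875, 33172, 12676, 24856, 35973, 34208, 20880, 25640, 35203, 4515, 26761, 34992, 34838, 12592, 19480, 4276, 4374, 3604, 8756, 27152, 26690, 25920, 17478, 33173, 12677, 24857, 33074, 32934, 20530, 3240, 12326, 11808, 17968, 25122, 24772, 2246, 34209, 20881, 25641, 33844, 34054, 11528, 20614, 19970, 2610, 26116, 8518, 34993, 34839, 12593, 19481, 4277, 4375, 3605, 8757, 27153, 26691, 25921, 17479, 17800, 28930, 16568, 10758, 1574, 19648, 16834, 16918,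 3394, 28832, 8616, 33075, 32935, 20531, 3241, 12327, 11809, 17969, 25123, 24773, 2247, 2456, 28692, 1336, 1476, 11332, 33845, 34055, 11529, 20615, 19971, 2611, 26117, 8519, 10296, 10688, 17801, 28931, 16569, 10759, 1575, 19649, 16835, 16919, 3395, 28833, 8617, 2457, 28693, 1337, 1477, 11333, 10297, 10689]

theorem code_parts (g : M) : code g % 2 = (Multiplicative.toAdd g.1).val ∧
    ∀ i : Fin 5, dig (code g) i = ((g.2 : Equiv.Perm (Fin 5)) i).val := by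
  have hb : ∀ i : Fin 5, ((g.2 : Equiv.Perm (Fin 5)) i).val < 8 := fun i =>
    lt_trans (Fin.isLt _) (by norm_num)
  have he : (Multiplicative.toAdd g.1).val < 2 := ZMod.val_lt _
  have key : ∀ e a b c d f : ℕ, e < 2 → a < 8 → b < 8 → c < 8 → d < 8 → f < 8 →
      (e + 2 * a + 16 * b + 128 * c + 1024 * d + 8192 * f) % 2 = e ∧
      (e + 2 * a + 16 * b + 128 * c + 1024 * d + 8192 * f) / 2 % 8 = a ∧
      (e + 2 * a + 16 * b + 128 * c + 1024 * d + 8192 * f) / 16 % 8 = b ∧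
      (e + 2 * a + 16 * b + 128 * c + 1024 * d + 8192 * f) / 128 % 8 = c ∧
      (e + 2 * a + 16 * b + 128 * c + 1024 * d + 8192 * f) / 1024 % 8 = d ∧
      (e + 2 * a + 16 * b + 128 * c + 1024 * d + 8192 * f) / 8192 % 8 = f := by omega
  obtain ⟨h0, h1, h2, h3, h4, h5⟩ := key _ _ _ _ _ _ he (hb 0) (hb 1) (hb 2) (hb 3) (hb 4)
  refine ⟨h0, fun i => ?_⟩
  fin_cases i <;> simpa [dig, code] using by first | exact h1 | exact h2 | exact h3 | exact h4 | exact h5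

theorem code_mul (g h : M) : code (g * h) = mulC (code g) (code h) := by
  obtain ⟨g0, gi⟩ := code_parts g
  obtain ⟨h0, hi⟩ := code_parts h
  have e : ∀ i : Fin 5, (((g * h).2 : Equiv.Perm (Fin 5)) i).val = dig (code g) (dig (code h) i) := by
    intro i
    rw [hi i, gi]
    rfl
  conv_lhs => unfold code
  rw [e 0, e 1, e 2, e 3, e 4]
  unfold mulC
  rw [g0, h0, Prod.fst_mul, toAdd_mul, ZMod.val_add]
  rfl

theorem code_injective : Function.Injective code := by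
  intro g h e
  obtain ⟨g0, gi⟩ := code_parts g
  obtain ⟨h0, hi⟩ := code_parts h
  refine Prod.ext (Multiplicative.toAdd.injective (ZMod.val_injective 2 (by rw [← g0, ← h0, e]))) ?_
  exact Subtype.ext (Equiv.ext fun i => Fin.ext (by rw [← gi, ← hi, e]))

theorem code_mem (g : M) : code g ∈ codeList := by
  have h : ∀ g : M, code g ∈ codeList := by decide +kernel
  exact h g

theorem code_one : code (1 : M) = 36112 := by decide +kernel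

theorem code_eq_one_iff {g : M} : code g = 36112 ↔ g = 1 :=
  ⟨fun h => code_injective (h.trans code_one.symm), fun h => h ▸ code_one⟩

theorem card_M : Fintype.card M = 120 := by decide +kernel

/-- The central involution. -/
def lt : M := (Multiplicative.ofAdd 1, 1)
/-- The three-cycle `(0 1 2)`. -/
def lc : M := (1, ⟨Equiv.swap 0 1 * Equiv.swap 1 2, by rw [Equiv.Perm.mem_alternatingGroup]; decide⟩)
/-- The involution `(0 1)(2 3)`. -/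
def lv : M := (1, ⟨Equiv.swap 0 1 * Equiv.swap 2 3, by rw [Equiv.Perm.mem_alternatingGroup]; decide⟩)
/-- The five-cycle `(0 1 2 3 4)`. -/
def ld : M := (1, ⟨Equiv.swap 0 1 * Equiv.swap 1 2 * Equiv.swap 2 3 * Equiv.swap 3 4, by rw [Equiv.Perm.mem_alternatingGroup]; decide⟩)

/-- The letters of `2 × A₅`. -/
def mletter : ℕ → M
  | 0 => lc
  | 1 => lc⁻¹
  | 2 => lt
  | 3 => lv
  | 4 => ld
  | 5 => ld⁻¹
  | _ => 1

/-- The code of a letter. -/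
def letterC : ℕ → ℕ
  | 0 => code lc
  | 1 => code lc⁻¹
  | 2 => code lt
  | 3 => code lv
  | 4 => code ld
  | 5 => code ld⁻¹
  | _ => 36112

/-- The code of a word. -/
def wordC (l : List ℕ) : ℕ := l.foldr (fun x c => mulC (letterC x) c) 36112

theorem code_mletter (x : ℕ) : code (mletter x) = letterC x := by
  unfold mletter letterC
  split <;> first | rfl | exact code_one

theorem code_prod (l : List ℕ) : code (l.map mletter).prod = wordC l := by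
  induction l with
  | nil => exact code_one
  | cons x l ih => rw [List.map_cons, List.prod_cons, code_mul, code_mletter, ih]; rfl

theorem prod_eq_of_code {l : List ℕ} {m : M} (h : wordC l = code m) : (l.map mletter).prod = m :=
  code_injective ((code_prod l).trans h)

/-- The inverse table of the letters. -/
def ip : ℕ := ([1, 0, 2, 3, 5, 4, 7, 6, 8, 9, 10, 11, 12, 13, 14, 15] : List ℕ).foldr (fun d v => d + 16 * v) 0

/-- Relators of `2 × A₅`, sorted by length. -/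
def mWords : List (List ℕ) := 
  [[0, 0, 0],
   [0, 2, 1, 2],
   [2, 3, 2, 3],
   [2, 4, 2, 5],
   [0, 0, 2, 0, 2],
   [0, 4, 0, 5, 3],
   [0, 0, 0, 3, 3],
   [0, 0, 0, 5, 4],
   [4, 4, 4, 4, 4],
   [0, 0, 0, 4, 5],
   [0, 2, 3, 2, 3, 1],
   [0, 2, 4, 2, 5, 1],
   [0, 2, 5, 2, 4, 1],
   [0, 1, 2, 3, 2, 3],
   [0, 0, 3, 4, 1, 5],
   [0, 1, 2, 4, 2, 5],
   [0, 1, 2, 5, 2, 4],
   [0, 0, 5, 1, 3, 4],
   [0, 2, 1, 3, 2, 3],
   [0, 3, 0, 3, 0, 3],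
   [0, 3, 2, 3, 1, 2],
   [2, 3, 4, 2, 5, 3],
   [0, 3, 5, 0, 3, 5],
   [2, 3, 5, 2, 4, 3],
   [0, 4, 1, 3, 5, 5],
   [0, 2, 1, 5, 2, 4],
   [0, 3, 5, 5, 3, 4],
   [0, 5, 2, 4, 1, 2],
   [0, 5, 0, 5, 0, 5],
   [3, 4, 3, 4, 3, 4],
   [0, 4, 4, 0, 4, 4],
   [2, 4, 4, 2, 5, 5],
   [0, 2, 1, 4, 2, 5],
   [0, 4, 2, 5, 1, 2],
   [0, 2, 4, 0, 5, 3, 2],
   [0, 2, 5, 3, 0, 4, 2],
   [0, 0, 0, 3, 1, 0, 3],
   [0, 3, 0, 4, 0, 5, 1],
   [0, 0, 3, 1, 3, 1, 3],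
   [0, 0, 3, 4, 0, 0, 5],
   [0, 3, 4, 3, 5, 1, 5],
   [0, 3, 4, 4, 3, 5, 3],
   [0, 0, 4, 3, 1, 4, 3],
   [0, 0, 4, 1, 4, 1, 4],
   [0, 3, 0, 4, 3, 5, 5],
   [0, 4, 4, 1, 4, 1, 3],
   [0, 0, 4, 4, 3, 0, 5],
   [0, 4, 4, 4, 4, 4, 1],
   [0, 0, 0, 4, 1, 0, 5],
   [0, 4, 1, 3, 4, 4, 4],
   [0, 0, 5, 5, 1, 5, 5],
   [0, 0, 0, 3, 0, 1, 3],
   [0, 1, 3, 0, 4, 0, 5],
   [0, 1, 4, 4, 4, 4, 4],
   [0, 3, 5, 1, 5, 1, 4],
   [0, 0, 0, 3, 2, 2, 3],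
   [0, 4, 0, 5, 2, 2, 3],
   [0, 0, 0, 5, 2, 2, 4],
   [2, 2, 4, 4, 4, 4, 4],
   [0, 0, 0, 4, 2, 2, 5],
   [0, 4, 3, 3, 0, 5, 3],
   [0, 3, 4, 0, 4, 1, 4],
   [0, 3, 3, 5, 3, 0, 4],
   [0, 3, 4, 3, 4, 0, 4],
   [0, 4, 0, 5, 5, 4, 3],
   [0, 2, 1, 3, 1, 0, 2, 3],
   [0, 2, 3, 1, 2, 0, 3, 1],
   [0, 2, 3, 4, 2, 5, 3, 1],
   [0, 2, 3, 5, 2, 4, 3, 1],
   [0, 2, 4, 1, 2, 0, 5, 1],
   [0, 2, 4, 3, 2, 3, 5, 1],
   [0, 3, 5, 3, 5, 3, 5, 1],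
   [0, 2, 4, 4, 2, 5, 5, 1],
   [0, 2, 1, 4, 1, 0, 2, 5],
   [0, 3, 1, 0, 5, 0, 3, 5],
   [0, 4, 1, 3, 5, 1, 0, 5],
   [0, 2, 5, 1, 2, 0, 4, 1],
   [0, 3, 0, 5, 1, 4, 4, 1],
   [0, 2, 5, 5, 2, 4, 4, 1],
   [0, 3, 1, 0, 5, 5, 3, 4],
   [0, 0, 2, 3, 4, 1, 5, 2],
   [0, 0, 2, 5, 1, 3, 4, 2],
   [0, 1, 2, 3, 0, 2, 1, 3],
   [0, 1, 2, 3, 1, 2, 0, 3],
   [0, 0, 4, 3, 0, 0, 4, 3],
   [0, 1, 2, 3, 5, 2, 4, 3],
   [0, 1, 2, 4, 1, 2, 0, 5],
   [0, 1, 2, 4, 3, 2, 3, 5],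
   [0, 1, 3, 5, 3, 5, 3, 5],
   [0, 0, 3, 1, 4, 4, 3, 5],
   [0, 0, 3, 0, 5, 0, 5, 5],
   [0, 1, 2, 4, 4, 2, 5, 5],
   [0, 1, 2, 5, 0, 2, 1, 4],
   [0, 1, 2, 5, 5, 2, 4, 4],
   [0, 1, 3, 1, 5, 3, 4, 4],
   [0, 2, 3, 0, 3, 0, 3, 2],
   [0, 0, 5, 2, 1, 2, 3, 4],
   [0, 2, 3, 5, 0, 3, 5, 2],
   [0, 2, 5, 1, 4, 4, 3, 2],
   [0, 3, 5, 5, 3, 2, 2, 4],
   [0, 2, 4, 1, 3, 5, 5, 2],
   [0, 2, 5, 0, 5, 0, 5, 2],
   [2, 2, 3, 5, 3, 5, 3, 5],
   [0, 2, 4, 4, 0, 4, 4, 2],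
   [0, 3, 2, 2, 5, 0, 3, 5],
   [0, 4, 1, 3, 5, 2, 2, 5],
   [0, 4, 2, 2, 4, 0, 4, 4],
   [0, 0, 3, 4, 2, 1, 2, 5],
   [0, 2, 3, 5, 5, 3, 4, 2],
   [2, 2, 3, 4, 3, 4, 3, 4],
   [0, 4, 1, 3, 2, 2, 5, 5],
   [0, 3, 2, 2, 5, 5, 3, 4],
   [0, 5, 2, 4, 1, 3, 2, 3],
   [0, 4, 3, 0, 4, 4, 1, 3],
   [0, 3, 0, 3, 1, 4, 0, 5],
   [0, 3, 2, 3, 1, 4, 2, 5],
   [0, 3, 2, 3, 1, 5, 2, 4],
   [0, 3, 0, 3, 5, 3, 4, 4],
   [0, 3, 4, 3, 0, 3, 4, 3],
   [0, 3, 0, 3, 4, 3, 1, 4],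
   [2, 3, 4, 3, 2, 3, 5, 3],
   [0, 3, 4, 3, 1, 3, 4, 4],
   [0, 3, 1, 3, 4, 4, 1, 4],
   [2, 3, 4, 4, 2, 5, 5, 3],
   [0, 4, 3, 2, 3, 5, 1, 2],
   [0, 3, 0, 5, 5, 0, 4, 3],
   [0, 4, 2, 5, 1, 5, 2, 4],
   [0, 2, 1, 3, 5, 2, 4, 3],
   [0, 3, 0, 5, 3, 1, 3, 5],
   [0, 3, 1, 4, 1, 4, 3, 5],
   [2, 4, 3, 5, 2, 4, 3, 5],
   [0, 5, 5, 2, 4, 4, 1, 2],
   [0, 0, 0, 3, 2, 1, 0, 2, 3],
   [0, 2, 3, 0, 4, 0, 5, 2, 1],
   [0, 0, 2, 3, 1, 3, 1, 3, 2],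
   [0, 0, 2, 3, 4, 0, 0, 5, 2],
   [0, 2, 3, 4, 3, 5, 1, 5, 2],
   [0, 2, 3, 4, 4, 3, 5, 3, 2],
   [0, 0, 4, 3, 2, 1, 2, 4, 3],
   [0, 0, 2, 4, 1, 4, 1, 4, 2],
   [0, 0, 2, 4, 3, 1, 4, 3, 2],
   [0, 2, 4, 3, 5, 5, 0, 3, 2],
   [0, 2, 4, 4, 1, 4, 1, 3, 2],
   [0, 0, 2, 4, 4, 3, 0, 5, 2],
   [0, 2, 4, 4, 4, 4, 4, 2, 1],
   [0, 0, 0, 4, 2, 1, 0, 2, 5],
   [0, 2, 5, 1, 5, 5, 5, 3, 2],
   [0, 0, 2, 5, 5, 1, 5, 5, 2],
   [0, 3, 1, 0, 3, 5, 3, 0, 4],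
   [0, 0, 3, 1, 5, 5, 3, 4, 3],
   [0, 0, 0, 3, 2, 0, 1, 2, 3],
   [0, 1, 2, 3, 0, 4, 0, 5, 2],
   [0, 1, 2, 4, 4, 4, 4, 4, 2],
   [0, 2, 4, 3, 5, 3, 1, 4, 2],
   [0, 2, 3, 5, 1, 5, 1, 4, 2],
   [0, 0, 5, 5, 2, 1, 2, 5, 5],
   [0, 1, 3, 1, 5, 1, 3, 4, 3],
   [0, 4, 3, 2, 2, 3, 0, 5, 3],
   [0, 3, 2, 2, 4, 3, 5, 1, 5],
   [0, 3, 2, 2, 4, 0, 4, 1, 4],
   [0, 3, 2, 2, 3, 5, 3, 0, 4],
   [0, 3, 4, 3, 2, 2, 4, 0, 4],
   [0, 4, 0, 5, 5, 2, 2, 4, 3],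
   [0, 2, 3, 5, 3, 5, 3, 5, 2, 1],
   [0, 2, 3, 1, 4, 3, 1, 4, 2, 1],
   [0, 2, 4, 3, 0, 5, 1, 4, 2, 1],
   [0, 2, 3, 0, 5, 1, 4, 4, 2, 1],
   [0, 2, 3, 1, 5, 3, 4, 4, 2, 1],
   [0, 2, 3, 0, 5, 2, 4, 1, 3, 1],
   [0, 2, 3, 1, 4, 2, 5, 0, 3, 1],
   [0, 2, 3, 1, 5, 2, 4, 0, 3, 1],
   [0, 2, 3, 5, 3, 2, 3, 4, 3, 1],
   [0, 2, 1, 3, 5, 1, 0, 2, 4, 3],
   [0, 0, 2, 4, 3, 0, 0, 4, 3, 2],
   [0, 1, 2, 3, 5, 3, 5, 3, 5, 2],
   [0, 0, 2, 3, 1, 4, 4, 3, 5, 2],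
   [0, 0, 2, 3, 0, 5, 0, 5, 5, 2],
   [0, 1, 2, 3, 1, 5, 3, 4, 4, 2],
   [0, 1, 2, 3, 1, 5, 2, 4, 0, 3],
   [0, 1, 2, 3, 5, 3, 2, 3, 4, 3],
   [0, 2, 4, 3, 0, 4, 4, 1, 3, 2],
   [0, 2, 3, 1, 4, 0, 5, 0, 3, 2],
   [0, 2, 3, 5, 3, 4, 4, 0, 3, 2],
   [0, 2, 3, 4, 3, 0, 3, 4, 3, 2],
   [0, 2, 3, 4, 3, 1, 4, 0, 3, 2],
   [0, 2, 3, 5, 3, 1, 5, 5, 3, 2],
   [0, 2, 3, 1, 5, 0, 5, 5, 3, 2],
   [0, 2, 3, 0, 5, 5, 0, 4, 3, 2],
   [0, 2, 3, 0, 5, 3, 1, 3, 5, 2],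
   [0, 2, 3, 1, 4, 1, 4, 3, 5, 2],
   [0, 2, 4, 3, 0, 3, 0, 5, 5, 2],
   [0, 2, 3, 1, 5, 1, 3, 4, 3, 2, 1],
   [0, 0, 2, 3, 1, 5, 5, 3, 4, 3, 2],
   [0, 1, 2, 3, 1, 5, 1, 3, 4, 3, 2]]

theorem mWords_ok : ∀ l ∈ mWords, (∀ x ∈ l, x < 6) ∧ wordC l = 36112 := by decide +kernel

/-- Words for all elements of `2 × A₅`. -/
def genWords : List (List ℕ) := 
  [[],
   [0],
   [1],
   [2],
   [3],
   [4],
   [5],
   [0, 2],
   [0, 3],
   [0, 4],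
   [0, 5],
   [1, 2],
   [1, 3],
   [1, 4],
   [1, 5],
   [2, 3],
   [2, 4],
   [2, 5],
   [3, 0],
   [3, 1],
   [3, 4],
   [3, 5],
   [4, 0],
   [4, 1],
   [4, 3],
   [4, 4],
   [5, 0],
   [5, 1],
   [5, 3],
   [5, 5],
   [0, 2, 3],
   [0, 2, 4],
   [0, 2, 5],
   [0, 3, 0],
   [0, 3, 1],
   [0, 3, 4],
   [0, 3, 5],
   [0, 4, 1],
   [0, 4, 3],
   [0, 4, 4],
   [0, 5, 0],
   [0, 5, 1],
   [0, 5, 5],
   [1, 2, 3],
   [1, 2, 4],
   [1, 2, 5],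
   [1, 3, 0],
   [1, 3, 1],
   [1, 3, 5],
   [1, 4, 1],
   [1, 4, 3],
   [1, 4, 4],
   [1, 5, 0],
   [1, 5, 5],
   [2, 3, 0],
   [2, 3, 1],
   [2, 3, 4],
   [2, 3, 5],
   [2, 4, 0],
   [2, 4, 1],
   [2, 4, 3],
   [2, 4, 4],
   [2, 5, 0],
   [2, 5, 1],
   [2, 5, 3],
   [2, 5, 5],
   [3, 0, 5],
   [3, 1, 4],
   [3, 1, 5],
   [3, 4, 3],
   [3, 4, 4],
   [3, 5, 1],
   [3, 5, 3],
   [4, 0, 4],
   [4, 3, 0],
   [4, 3, 5],
   [4, 4, 1],
   [0, 2, 3, 0],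
   [0, 2, 3, 1],
   [0, 2, 3, 4],
   [0, 2, 3, 5],
   [0, 2, 4, 1],
   [0, 2, 4, 3],
   [0, 2, 4, 4],
   [0, 2, 5, 0],
   [0, 2, 5, 1],
   [0, 2, 5, 5],
   [0, 3, 0, 5],
   [0, 3, 1, 4],
   [0, 3, 1, 5],
   [0, 3, 5, 3],
   [0, 4, 3, 0],
   [1, 2, 3, 0],
   [1, 2, 3, 1],
   [1, 2, 3, 5],
   [1, 2, 4, 1],
   [1, 2, 4, 3],
   [1, 2, 4, 4],
   [1, 2, 5, 0],
   [1, 2, 5, 5],
   [1, 3, 1, 5],
   [1, 3, 5, 3],
   [2, 3, 0, 5],
   [2, 3, 1, 4],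
   [2, 3, 1, 5],
   [2, 3, 4, 3],
   [2, 3, 4, 4],
   [2, 3, 5, 1],
   [2, 3, 5, 3],
   [2, 4, 0, 4],
   [2, 4, 3, 0],
   [2, 4, 3, 5],
   [2, 4, 4, 1],
   [0, 2, 3, 0, 5],
   [0, 2, 3, 1, 4],
   [0, 2, 3, 1, 5],
   [0, 2, 3, 5, 3],
   [0, 2, 4, 3, 0],
   [1, 2, 3, 1, 5],
   [1, 2, 3, 5, 3]]

theorem exists_genWord : ∀ c ∈ codeList, ∃ l ∈ genWords, (∀ x ∈ l, x < 6) ∧ wordC l = c := by
  decide +kernel

/-- A word for `c v c⁻¹`. -/
def wv2 : List ℕ := [0, 3, 1]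

/-- The second involution `c v c⁻¹`. -/
def lv2 : M := lc * lv * lc⁻¹

/-- Relators of the amalgam. -/
def amalWords : List (List ℕ) :=
  [[6, 6, 6, 6, 6, 6, 6], [0, 6, 1, 7, 7], [6, 2, 7, 3], [6, 3, 7] ++ invWord ip wv2,
    [6] ++ wv2 ++ [7] ++ invWord ip [2, 3]]

/-- The word `fⁱ x f⁻ⁱ`. -/
def yWord (i : ℕ) (x : List ℕ) : List ℕ := List.replicate i 6 ++ x ++ List.replicate i 7

/-- The commutator word. -/
def commWord (z y : List ℕ) : List ℕ := z ++ y ++ invWord ip z ++ invWord ip y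

/-- A word for the three-cycle inverted by `v`. -/
def wc0 : List ℕ := [4, 3, 0]

/-- A word for the five-cycle inverted by `v`. -/
def wd0 : List ℕ := [0, 3, 4]

/-- The word expressing the commutator of `y` and `z` by a further word. -/
def quadWord (y z e : List ℕ) : List ℕ := invWord ip y ++ invWord ip z ++ y ++ z ++ e

variable {X : Type*} [Group X] (j : M →* X) (f : X)

/-- The letters in `X`. -/
def letter : ℕ → X
  | 6 => f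
  | 7 => f⁻¹
  | x => j (mletter x)

theorem letter_six : letter j f 6 = f := rfl
theorem letter_seven : letter j f 7 = f⁻¹ := rfl

theorem letter_m {x : ℕ} (hx : x < 6) : letter j f x = j (mletter x) := by
  match x, hx with
  | 0, _ => rfl
  | 1, _ => rfl
  | 2, _ => rfl
  | 3, _ => rfl
  | 4, _ => rfl
  | 5, _ => rfl

theorem prod_m {l : List ℕ} (hl : ∀ x ∈ l, x < 6) :
    (l.map (letter j f)).prod = j (l.map mletter).prod := by
  rw [map_list_prod, List.map_map]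
  exact congrArg List.prod (List.map_congr_left fun x hx => letter_m j f (hl x hx))

theorem letter_fifteen : letter j f 15 = 1 := map_one j

theorem letter_of_eight_le {x : ℕ} (hx : 8 ≤ x) : letter j f x = 1 := by
  obtain ⟨k, rfl⟩ := Nat.exists_eq_add_of_le' hx
  exact map_one j

theorem letter_linv (x : ℕ) (hx : x < 16) : letter j f (linv ip x) = (letter j f x)⁻¹ := by
  rcases Nat.lt_or_ge x 6 with h | h
  · have key : ∀ x < 6, linv ip x < 6 ∧ mletter (linv ip x) = (mletter x)⁻¹ := by decide +kernel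
    rw [letter_m j f (key x h).1, letter_m j f h, (key x h).2, map_inv]
  rcases Nat.lt_or_ge x 8 with h' | h'
  · interval_cases x
    · rw [show linv ip 6 = 7 by decide +kernel]; rfl
    · rw [show linv ip 7 = 6 by decide +kernel]; exact (inv_inv f).symm
  · have h2 : ∀ y, y < 16 → 8 ≤ y → linv ip y = y := by decide +kernel
    rw [h2 x hx h', letter_of_eight_le j f h', inv_one]

/-- The subgroup generated by the image of `2 × A₅` and `f`. -/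
def span : Subgroup X := j.range ⊔ Subgroup.zpowers f

theorem span_le_closure : span j f ≤ Subgroup.closure (letter j f '' Set.Iio 16) := by
  have hm : ∀ x < 16, letter j f x ∈ Subgroup.closure (letter j f '' Set.Iio 16) := fun x hx =>
    Subgroup.subset_closure ⟨x, hx, rfl⟩
  refine sup_le ?_ (Subgroup.zpowers_le.mpr (hm 6 (by norm_num)))
  rintro _ ⟨m, rfl⟩
  obtain ⟨l, -, hl, hc⟩ := exists_genWord _ (code_mem m)
  rw [← prod_eq_of_code hc, ← prod_m j f hl]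
  refine Subgroup.list_prod_mem _ fun y hy => ?_
  obtain ⟨x, hx, rfl⟩ := List.mem_map.mp hy
  exact hm x ((hl x hx).trans (by norm_num))

/-- The relations of the normaliser of the Sylow 2-subgroup. -/
structure IsAmal : Prop where
  pow_seven : f ^ 7 = 1
  c_f : j lc * f * (j lc)⁻¹ = f * f
  f_t : f * j lt * f⁻¹ = j lv
  f_v : f * j lv * f⁻¹ = j lv2
  f_v2 : f * j lv2 * f⁻¹ = j (lt * lv)

variable {j f}

theorem prod_inv {l : List ℕ} (hl : ∀ x ∈ l, x < 16) :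
    ((invWord ip l).map (letter j f)).prod = ((l.map (letter j f)).prod)⁻¹ :=
  prod_invWord (letter_linv j f) l hl

theorem invWord_lt_sixteen {l : List ℕ} : ∀ x ∈ invWord ip l, x < 16 := by
  intro x hx
  simp only [CfsgLib.CosetEnum.invWord, List.mem_reverse, List.mem_map] at hx
  obtain ⟨y, -, rfl⟩ := hx
  exact linv_lt _ _

theorem prod_m_code {l : List ℕ} {m : M} (hl : ∀ x ∈ l, x < 6) (h : wordC l = code m) :
    (l.map (letter j f)).prod = j m := by rw [prod_m j f hl, prod_eq_of_code h]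

theorem amal_ok (h : IsAmal j f) (k : ℕ) :
    ∀ l ∈ mWords.take k ++ amalWords, (∀ x ∈ l, x < 16) ∧ (l.map (letter j f)).prod = 1 := by
  have lt16 : ∀ l ∈ amalWords, ∀ x ∈ l, x < 16 := by decide +kernel
  have hv2 : (wv2.map (letter j f)).prod = j lv2 := prod_m_code (by decide) (by decide +kernel)
  have htv : (([2, 3] : List ℕ).map (letter j f)).prod = j (lt * lv) :=
    prod_m_code (by decide) (by decide +kernel)
  intro l hl
  rcases List.mem_append.mp hl with hl | hl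
  · obtain ⟨h6, h1⟩ := mWords_ok l (List.mem_of_mem_take hl)
    exact ⟨fun x hx => (h6 x hx).trans (by norm_num),
      (prod_m_code h6 (h1.trans code_one.symm)).trans (map_one j)⟩
  refine ⟨lt16 l hl, ?_⟩
  have l0 : letter j f 0 = j lc := rfl
  have l1 : letter j f 1 = (j lc)⁻¹ := map_inv j lc
  have l2 : letter j f 2 = j lt := rfl
  have l3 : letter j f 3 = j lv := rfl
  have hvv : j lv * j lv = 1 := by rw [← map_mul, show lv * lv = 1 by decide +kernel, map_one]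
  simp only [amalWords, List.mem_cons, List.not_mem_nil, or_false] at hl
  rcases hl with rfl | rfl | rfl | rfl | rfl
  · simpa [letter_six, pow_succ, mul_assoc] using h.pow_seven
  · simp only [List.map_cons, List.map_nil, List.prod_cons, List.prod_nil, mul_one, l0, l1, letter_six,
      letter_seven]
    rw [← mul_assoc, ← mul_assoc, ← mul_assoc, h.c_f]
    group
  · simp only [List.map_cons, List.map_nil, List.prod_cons, List.prod_nil, mul_one, l2, l3, letter_six,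
      letter_seven]
    rw [← mul_assoc, ← mul_assoc, h.f_t, hvv]
  · rw [List.map_append, List.prod_append, prod_inv (by decide), hv2]
    simp only [List.map_cons, List.map_nil, List.prod_cons, List.prod_nil, mul_one, l3, letter_six,
      letter_seven]
    rw [← mul_assoc f, h.f_v, mul_inv_cancel]
  · rw [List.map_append, List.prod_append, prod_inv (by decide), htv, List.map_append, List.prod_append,
      List.map_append, List.prod_append, hv2]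
    simp only [List.map_cons, List.map_nil, List.prod_cons, List.prod_nil, mul_one, letter_six, letter_seven]
    rw [h.f_v2, mul_inv_cancel]

/-- Soundness of a certificate over the image of `2 × A₅`. -/
theorem covers (c : Letters.Cert) {ls : List (List ℕ)}
    (hc : c.check ip 8 [[0], [2], [3], [4]] ls = true)
    (hls : ∀ l ∈ ls, (∀ x ∈ l, x < 16) ∧ (l.map (letter j f)).prod = 1) :
    CoversCosets (span j f) j.range c.n := by
  refine c.covers (letter_fifteen j f) (letter_linv j f) (fun x _ => ?_) _ _ (span_le_closure j f) hc hls ?_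
  · rcases Nat.lt_or_ge x 8 with h | h
    · exact Or.inl h
    · exact Or.inr (letter_of_eight_le j f h)
  · simp only [List.mem_cons, List.not_mem_nil, or_false]
    rintro l (rfl | rfl | rfl | rfl) <;> exact ⟨by simp, ⟨_, (mul_one _).symm⟩⟩

theorem card_le (c : Letters.Cert) {ls : List (List ℕ)} (hc : c.check ip 8 [[0], [2], [3], [4]] ls = true)
    (hls : ∀ l ∈ ls, (∀ x ∈ l, x < 16) ∧ (l.map (letter j f)).prod = 1) :
    Finite (span j f) ∧ Nat.card (span j f) ≤ c.n * 120 := by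
  have hfin : Finite j.range := Finite.of_surjective _ j.rangeRestrict_surjective
  have h120 : Nat.card j.range ≤ 120 := by
    have := Nat.card_le_card_of_surjective _ j.rangeRestrict_surjective
    rwa [Nat.card_eq_fintype_card (α := M), card_M] at this
  obtain ⟨h1, h2⟩ := (covers c hc hls).card_le
  exact ⟨h1, h2.trans (Nat.mul_le_mul_left _ h120)⟩

end CfsgLib.J1Recog
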