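import Cfsg.Agent.Lib.Sporadic.J1.Recog.Local
import Cfsg.Agent.Lib.CharDeep.ClassSum
import Cfsg.Agent.Lib.Char.Exceptional
import Cfsg.Agent.Lib.Char.Induced
import Mathlib.Data.Real.Sqrt

/-!
# The case of a centraliser of order 6 of an element of order 3
-/

set_option autoImplicit false
set_option maxRecDepth 8000

open scoped ComplexConjugate

namespace CfsgLib.J1Recog

open Subgroup

universe u

/-- A subgroup of order `p²` in a centraliser of an element of order `p`. -/
theorem sq_dvd_card_centralizer {G : Type*} [Group G] [Finite G] {p : ℕ} [hp : Fact p.Prime] {x : G}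
    (hx : orderOf x = p) (h : p ^ 2 ∣ Nat.card G) :
    p ^ 2 ∣ Nat.card (centralizer ({x} : Set G)) := by
  obtain ⟨Q, hQ⟩ := (IsPGroup.of_card (p := p) (n := 1) (G := zpowers x)
    (by rw [Nat.card_zpowers, hx, pow_one])).exists_le_sylow
  have hxQ : x ∈ (Q : Subgroup G) := hQ (mem_zpowers x)
  have hQ2 : p ^ 2 ∣ Nat.card (Q : Subgroup G) := Q.pow_dvd_card_of_pow_dvd_card h
  haveI : Nontrivial (Q : Subgroup G) := Finite.one_lt_card_iff_nontrivial.mp
    (lt_of_lt_of_le (Nat.one_lt_pow two_ne_zero hp.out.one_lt) (Nat.le_of_dvd Nat.card_pos hQ2))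
  have hZ := Q.2.center_nontrivial
  by_cases hac : (⟨x, hxQ⟩ : (Q : Subgroup G)) ∈ center (Q : Subgroup G)
  · refine hQ2.trans (card_dvd_of_le fun y hy => mem_centralizer_singleton_iff.mpr ?_)
    exact congrArg Subtype.val (mem_center_iff.mp hac ⟨y, hy⟩)
  · set R : Subgroup (Q : Subgroup G) := zpowers ⟨x, hxQ⟩ ⊔ center (Q : Subgroup G) with hR
    have hR1 : zpowers (⟨x, hxQ⟩ : (Q : Subgroup G)) < R := by
      refine lt_of_le_of_ne le_sup_left fun h' => hac ?_
      have hle : center (Q : Subgroup G) ≤ zpowers ⟨x, hxQ⟩ := h' ▸ le_sup_right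
      have hZc : Nat.card (center (Q : Subgroup G)) ∣ p := by
        have := card_dvd_of_le hle
        rwa [Nat.card_zpowers, orderOf_mk, hx] at this
      rcases (Nat.dvd_prime hp.out).mp hZc with h1 | hp'
      · exact absurd h1 Finite.one_lt_card.ne'
      · rw [eq_of_le_of_card_ge hle (by rw [Nat.card_zpowers, orderOf_mk, hx, hp'])]
        exact mem_zpowers _
    have hR2 : p ^ 2 ∣ Nat.card R := by
      obtain ⟨n, hn⟩ := IsPGroup.iff_card.mp (Q.2.to_subgroup R)
      rw [hn]
      refine pow_dvd_pow p ?_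
      by_contra hlt
      refine hR1.ne (eq_of_le_of_card_ge hR1.le ?_)
      rw [Nat.card_zpowers, orderOf_mk, hx, hn]
      calc p ^ n ≤ p ^ 1 := Nat.pow_le_pow_right hp.out.pos (by omega)
        _ = p := pow_one p
    have hRle : R.map (Q : Subgroup G).subtype ≤ centralizer ({x} : Set G) := by
      rw [map_le_iff_le_comap, hR, sup_le_iff]
      refine ⟨zpowers_le.mpr (mem_centralizer_singleton_iff.mpr rfl),
        fun z hz => mem_centralizer_singleton_iff.mpr ?_⟩
      exact (congrArg Subtype.val (mem_center_iff.mp hz ⟨x, hxQ⟩)).symm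
    have := card_dvd_of_le hRle
    rw [card_map_of_injective (subtype_injective _)] at this
    exact hR2.trans this

/-- A primitive third root of unity. -/
noncomputable def omega : ℂ := (-1 + (Real.sqrt 3 : ℂ) * Complex.I) / 2

theorem omega_sq : omega ^ 2 = -1 - omega := by
  have h3 : (Real.sqrt 3 : ℂ) * (Real.sqrt 3 : ℂ) = 3 := by
    rw [← Complex.ofReal_mul, Real.mul_self_sqrt (by norm_num)]; norm_num
  rw [omega]
  linear_combination (Complex.I * Complex.I / 4) * h3 + (3 / 4 : ℂ) * Complex.I_mul_I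

theorem omega_cube : omega ^ 3 = 1 := by
  linear_combination (omega - 1) * omega_sq

theorem conj_omega : conj omega = -1 - omega := by
  rw [omega]
  simp only [map_div₀, map_add, map_neg, map_one, map_mul, Complex.conj_ofReal, Complex.conj_I, map_ofNat]
  ring

/-- The third root of unity as a unit. -/
noncomputable def omegaUnit : ℂˣ :=
  ⟨omega, omega ^ 2, by rw [← pow_succ', omega_cube], by rw [← pow_succ, omega_cube]⟩

/-- The cyclic group of order 6. -/
abbrev Six : Type := Multiplicative (ZMod 2) × Multiplicative (ZMod 3)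

/-- The centraliser of `c` in `2 × A₅`. -/
def sixHom : Six →* M :=
  MonoidHom.mk' (fun g => lt ^ (Multiplicative.toAdd g.1).val * lc ^ (Multiplicative.toAdd g.2).val)
    (by decide +kernel)

theorem sixHom_injective : Function.Injective sixHom := by decide +kernel

/-- The linear character `ω` of the cyclic group of order 6. -/
noncomputable def sixChar : Six →* ℂˣ :=
  MonoidHom.mk' (fun g => omegaUnit ^ (Multiplicative.toAdd g.2).val) fun a b => by
    have h3 : omegaUnit ^ 3 = 1 := Units.ext omega_cube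
    rw [← pow_add]
    show omegaUnit ^ (Multiplicative.toAdd a.2 + Multiplicative.toAdd b.2).val = _
    rw [ZMod.val_add]
    exact (pow_eq_pow_mod _ h3).symm

/-- The virtual character `1 - ω`. -/
noncomputable def phi (g : Six) : ℂ := 1 - ((sixChar g : ℂˣ) : ℂ)

/-- Is the element outside the involution part? -/
def IsThree (g : Six) : Prop := g.2 ≠ 1

theorem phi_eq_zero {g : Six} (h : ¬ IsThree g) : phi g = 0 := by
  obtain ⟨a, b⟩ := g
  simp only [IsThree, ne_eq, not_not] at h
  subst h
  simp [phi, sixChar]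

theorem phi_add_inv {g : Six} (h : IsThree g) : phi g + phi g⁻¹ = 3 := by
  obtain ⟨a, b⟩ := g
  have hb : ∀ b : Multiplicative (ZMod 3), b ≠ 1 → (Multiplicative.toAdd b).val = 1 ∧
      (Multiplicative.toAdd b⁻¹).val = 2 ∨ (Multiplicative.toAdd b).val = 2 ∧
      (Multiplicative.toAdd b⁻¹).val = 1 := by decide
  rcases hb b h with ⟨e1, e2⟩ | ⟨e1, e2⟩ <;>
    simp only [phi, sixChar, MonoidHom.mk'_apply, Units.val_pow_eq_pow_val, Prod.inv_mk, e1, e2] <;>
    rw [show (omegaUnit : ℂ) = omega from rfl, pow_one, omega_sq] <;> ring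

/-- The twelve elements of `2 × A₅` normalising `⟨c⟩`. -/
def normC (c : ℕ) : Bool :=
  Nat.beq (mulC c (code lc)) (mulC (code lc) c) || Nat.beq (mulC c (code lc)) (mulC (code lc⁻¹) c)

theorem six_sum_inv (f : Six → ℂ) : ∑ g : Six, f g⁻¹ = ∑ g : Six, f g :=
  Fintype.sum_equiv (Equiv.inv Six) _ _ fun g => rfl

theorem conj_phi (g : Six) : conj (phi g) = phi g⁻¹ := by
  obtain ⟨a, b⟩ := g
  have hb : ∀ b : Multiplicative (ZMod 3), (Multiplicative.toAdd b).val = 0 ∧ (Multiplicative.toAdd b⁻¹).val = 0 ∨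
      (Multiplicative.toAdd b).val = 1 ∧ (Multiplicative.toAdd b⁻¹).val = 2 ∨
      (Multiplicative.toAdd b).val = 2 ∧ (Multiplicative.toAdd b⁻¹).val = 1 := by decide
  rcases hb b with ⟨e1, e2⟩ | ⟨e1, e2⟩ | ⟨e1, e2⟩ <;>
    simp only [phi, sixChar, MonoidHom.mk'_apply, Units.val_pow_eq_pow_val, Prod.inv_mk, e1, e2, map_sub,
      map_one, map_neg, map_pow, show (omegaUnit : ℂ) = omega from rfl, conj_omega, pow_zero, pow_one, Units.val_one,
      omega_sq]
  all_goals ring

theorem sum_phi : ∑ g : Six, phi g = 6 := by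
  have h : 2 * ∑ g : Six, phi g = ∑ g : Six, if g.2 ≠ 1 then (3 : ℂ) else 0 := by
    rw [two_mul]
    nth_rw 2 [← six_sum_inv phi]
    rw [← Finset.sum_add_distrib]
    refine Finset.sum_congr rfl fun g _ => ?_
    split_ifs with hg
    · exact phi_add_inv hg
    · rw [phi_eq_zero hg, phi_eq_zero (by simpa [IsThree] using hg), add_zero]
  have hc : (Finset.univ.filter fun g : Six => g.2 ≠ 1).card = 4 := by decide
  rw [← Finset.sum_filter, Finset.sum_const, hc] at h
  simp only [nsmul_eq_mul] at h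
  linear_combination h / 2

theorem pow_four_six : ∀ g : Six, sixHom g ^ 4 = lc ^ (Multiplicative.toAdd g.2).val := by decide +kernel

theorem three_power : ∀ g : Six, g.2 ≠ 1 → sixHom g ^ 4 = lc ∨ sixHom g ^ 4 = lc⁻¹ := by decide +kernel

/-- The involution inverting `c` and centralising `t`. -/
def lw : M := (1, ⟨Equiv.swap 0 1 * Equiv.swap 3 4, by rw [Equiv.Perm.mem_alternatingGroup]; decide⟩)

theorem lw_six : ∀ g : Six, lw * lw = 1 ∧ lw⁻¹ * sixHom g * lw = sixHom g⁻¹ := by decide +kernel

/-- The twelve elements normalising `⟨c⟩`. -/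
def normSet : Finset M := Finset.univ.filter fun m => normC (code m) = true

theorem card_normSet : normSet.card = 12 := by decide +kernel

theorem normC_six : ∀ c ∈ codeList, normC c = true → ∀ g : Six,
    mulC (code (sixHom g)) c = mulC c (code (sixHom g)) ∨
      mulC (code (sixHom g)) c = mulC c (code (sixHom g⁻¹)) := by
  decide +kernel

theorem normC_mul_lw : ∀ c ∈ codeList, normC (mulC c (code lw)) = normC c := by decide +kernel

theorem six_conj (m : M) (hm : normC (code m) = true) (g : Six) :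
    m⁻¹ * sixHom g * m = sixHom g ∨ m⁻¹ * sixHom g * m = sixHom g⁻¹ := by
  rcases normC_six _ (code_mem m) hm g with h | h
  · left
    rw [← code_mul, ← code_mul] at h
    rw [mul_assoc, code_injective h, inv_mul_cancel_left]
  · right
    rw [← code_mul, ← code_mul] at h
    rw [mul_assoc, code_injective h, inv_mul_cancel_left]

/-- The involutions inverting an element. -/
def reflSet (g : Six) : Finset M :=
  Finset.univ.filter fun m => m * m = 1 ∧ m * sixHom g * m⁻¹ = (sixHom g)⁻¹

theorem card_reflSet : ∀ g : Six, g.2 ≠ 1 → (reflSet g).card = 6 ∧ sixHom g * sixHom g ≠ 1 := by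
  decide +kernel

theorem F0_orbit : ∀ k : Fin 8, k ≠ 0 → ∃ i : Fin 7, F0^[i.val] 1 = k := by decide +kernel

section Group

variable {G : Type u} [Group G] (E : Emb G)

/-- The centraliser of `c` as an embedded cyclic group. -/
def Emb.six : Six →* G := E.j.comp sixHom

theorem Emb.six_injective : Function.Injective E.six := E.inj.comp sixHom_injective

variable [Fintype G]

/-- The induced virtual character. -/
noncomputable def Emb.theta : G → ℂ :=
  Cfsg.indFun E.six.range fun x => phi ((MonoidHom.ofInjective E.six_injective).symm x)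

/-- `C(c)` is as small as possible. -/
def Emb.SmallC : Prop := ∀ x : G, x * E.j lc = E.j lc * x → x ∈ E.six.range

omit [Fintype G] in
theorem Emb.SmallC.norm (h : E.SmallC) {x : G}
    (hx : x * E.j lc * x⁻¹ = E.j lc ∨ x * E.j lc * x⁻¹ = (E.j lc)⁻¹) :
    ∃ m : M, normC (code m) = true ∧ E.j m = x := by
  obtain ⟨w, hw1, hw2⟩ : ∃ w : M, w * w = 1 ∧ w * lc * w⁻¹ = lc⁻¹ := by
    exact ⟨(1, ⟨Equiv.swap 0 1 * Equiv.swap 3 4, by rw [Equiv.Perm.mem_alternatingGroup]; decide⟩),
      by decide +kernel, by decide +kernel⟩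
  rcases hx with hx | hx
  · obtain ⟨g, hg⟩ := h x (mul_inv_eq_iff_eq_mul.mp hx)
    refine ⟨sixHom g, ?_, hg⟩
    have key : ∀ g : Six, normC (code (sixHom g)) = true := by decide +kernel
    exact key g
  · obtain ⟨g, hg⟩ := h (E.j w * x) (mul_inv_eq_iff_eq_mul.mp (by
      calc E.j w * x * E.j lc * (E.j w * x)⁻¹ = E.j w * (x * E.j lc * x⁻¹) * (E.j w)⁻¹ := by group
        _ = E.j lc := by
          rw [hx, ← map_inv, ← map_inv, ← map_mul, ← map_mul,
            show w * lc⁻¹ * w⁻¹ = (w * lc * w⁻¹)⁻¹ by group, hw2, inv_inv]))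
    refine ⟨w⁻¹ * sixHom g, ?_, ?_⟩
    · have hc : (w⁻¹ * sixHom g) * lc = lc⁻¹ * (w⁻¹ * sixHom g) := by
        have e : ∀ g : Six, sixHom g * lc = lc * sixHom g := by decide +kernel
        have e' : w⁻¹ * lc = lc⁻¹ * w⁻¹ := by
          rw [inv_eq_of_mul_eq_one_right hw1]
          exact mul_inv_eq_iff_eq_mul.mp hw2
        rw [mul_assoc, e g, ← mul_assoc, e', mul_assoc]
      simp only [normC, Bool.or_eq_true]
      right
      rw [← code_mul, ← code_mul, hc]
      exact Nat.beq_refl _
    · rw [map_mul, show E.j (sixHom g) = E.j w * x from hg, map_inv, inv_mul_cancel_left]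

omit [Fintype G] in
theorem Emb.six_pow_four {g : Six} (hg : g.2 ≠ 1) :
    E.six g ^ 4 = E.j lc ∨ E.six g ^ 4 = (E.j lc)⁻¹ := by
  rcases three_power g hg with h | h
  · left; rw [Emb.six, MonoidHom.comp_apply, ← map_pow, h]
  · right; rw [Emb.six, MonoidHom.comp_apply, ← map_pow, h, map_inv]

/-- The normaliser of `⟨c⟩` as a finite set. -/
noncomputable def Emb.normG [DecidableEq G] : Finset G := normSet.image E.j

omit [Fintype G] in
theorem Emb.card_normG [DecidableEq G] : E.normG.card = 12 := by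
  rw [Emb.normG, Finset.card_image_of_injective _ E.inj, card_normSet]

omit [Fintype G] in
theorem Emb.mem_normG [DecidableEq G] {x : G} :
    x ∈ E.normG ↔ ∃ m : M, normC (code m) = true ∧ E.j m = x := by
  simp [Emb.normG, normSet]

omit [Fintype G] in
/-- Conjugation moving an element of order divisible by 3 of `C(c)` into `C(c)` normalises `⟨c⟩`. -/
theorem Emb.SmallC.mem_normG [DecidableEq G] (hs : E.SmallC) {g g' : Six} (hg : g.2 ≠ 1) (hg' : g'.2 ≠ 1)
    {x : G} (hx : x⁻¹ * E.six g * x = E.six g') : x ∈ E.normG := by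
  rw [E.mem_normG]
  apply hs.norm E
  have h4 : x⁻¹ * E.six g ^ 4 * x = E.six g' ^ 4 := by
    rw [← hx, show x⁻¹ * E.six g * x = x⁻¹ * E.six g * x⁻¹⁻¹ by group, conj_pow, inv_inv]
  rcases E.six_pow_four hg with h | h <;> rcases E.six_pow_four hg' with h' | h' <;> rw [h, h'] at h4
  · left
    calc x * E.j lc * x⁻¹ = x * (x⁻¹ * E.j lc * x) * x⁻¹ := by rw [h4]
      _ = E.j lc := by group
  · right
    calc x * E.j lc * x⁻¹ = (x * (E.j lc)⁻¹ * x⁻¹)⁻¹ := by group
      _ = (x * (x⁻¹ * E.j lc * x) * x⁻¹)⁻¹ := by rw [h4]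
      _ = (E.j lc)⁻¹ := by group
  · right
    calc x * E.j lc * x⁻¹ = x * (x⁻¹ * (E.j lc)⁻¹ * x) * x⁻¹ := by rw [h4]
      _ = (E.j lc)⁻¹ := by group
  · left
    calc x * E.j lc * x⁻¹ = (x * (E.j lc)⁻¹ * x⁻¹)⁻¹ := by group
      _ = (x * (x⁻¹ * (E.j lc)⁻¹ * x) * x⁻¹)⁻¹ := by rw [h4]
      _ = E.j lc := by group

/-- The function induced. -/
noncomputable def Emb.phiH (x : E.six.range) : ℂ := phi ((MonoidHom.ofInjective E.six_injective).symm x)

omit [Fintype G] in
theorem Emb.phiH_apply (g : Six) : E.phiH (MonoidHom.ofInjective E.six_injective g) = phi g := by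
  rw [Emb.phiH, MulEquiv.symm_apply_apply]

omit [Fintype G] in
theorem Emb.ext_six (g : Six) : Cfsg.extendByZero E.six.range E.phiH (E.six g) = phi g := by
  rw [Char.extendByZero_apply_mem _ _ (MonoidHom.mem_range.mpr ⟨g, rfl⟩), ← E.phiH_apply g]
  rfl

omit [Fintype G] in
theorem Emb.card_six : Nat.card E.six.range = 6 := by
  rw [← Nat.card_congr (MonoidHom.ofInjective E.six_injective).toEquiv, Nat.card_eq_fintype_card]
  rfl

theorem Emb.theta_six (hs : E.SmallC) {g : Six} (hg : g.2 ≠ 1) : E.theta (E.six g) = 3 := by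
  classical
  set F : G → ℂ := fun x => Cfsg.extendByZero E.six.range E.phiH (x⁻¹ * E.six g * x) with hF
  have h0 : ∀ x, x ∉ E.normG → F x = 0 := by
    intro x hx
    by_cases hmem : x⁻¹ * E.six g * x ∈ E.six.range
    · obtain ⟨g', hg'⟩ := hmem
      show Cfsg.extendByZero _ _ _ = 0
      rw [← hg', E.ext_six]
      by_contra hne
      exact hx (hs.mem_normG E hg (fun h => hne (phi_eq_zero (by simpa [IsThree] using h))) hg'.symm)
    · exact Char.extendByZero_of_notMem _ _ hmem
  have hw : E.j lw * E.j lw = 1 := by rw [← map_mul, (lw_six 1).1, map_one]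
  have h1 : ∀ x, F x + F (x * E.j lw) = if x ∈ E.normG then 3 else 0 := by
    intro x
    split_ifs with hx
    · obtain ⟨m, hm, rfl⟩ := E.mem_normG.mp hx
      obtain ⟨g', hg', h3⟩ : ∃ g', m⁻¹ * sixHom g * m = sixHom g' ∧ phi g' + phi g'⁻¹ = 3 := by
        rcases six_conj m hm g with h | h
        · exact ⟨g, h, phi_add_inv hg⟩
        · exact ⟨g⁻¹, h, by rw [inv_inv, add_comm]; exact phi_add_inv hg⟩
      have e1 : (E.j m)⁻¹ * E.six g * E.j m = E.six g' := by
        simp only [Emb.six, MonoidHom.comp_apply, ← map_inv, ← map_mul, hg']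
      have e2 : (E.j m * E.j lw)⁻¹ * E.six g * (E.j m * E.j lw) = E.six g'⁻¹ := by
        rw [show (E.j m * E.j lw)⁻¹ * E.six g * (E.j m * E.j lw) =
          (E.j lw)⁻¹ * ((E.j m)⁻¹ * E.six g * E.j m) * E.j lw by group, e1]
        simp only [Emb.six, MonoidHom.comp_apply, ← map_inv, ← map_mul, (lw_six g').2]
      show Cfsg.extendByZero _ _ _ + Cfsg.extendByZero _ _ _ = _
      rw [e1, e2, E.ext_six, E.ext_six, h3]
    · rw [h0 x hx, h0, add_zero]
      intro hxw
      obtain ⟨m, hm, he⟩ := E.mem_normG.mp hxw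
      refine hx (E.mem_normG.mpr ⟨m * lw, ?_, ?_⟩)
      · rw [code_mul, normC_mul_lw _ (code_mem m)]; exact hm
      · rw [map_mul, he, mul_assoc, hw, mul_one]
  have h2 : 2 * ∑ x, F x = 36 := by
    rw [two_mul]
    nth_rw 2 [show ∑ x, F x = ∑ x, F (x * E.j lw) from
      (Fintype.sum_equiv (Equiv.mulRight (E.j lw)) _ _ fun x => rfl).symm]
    rw [← Finset.sum_add_distrib, Finset.sum_congr rfl fun x _ => h1 x, Finset.sum_ite_mem,
      Finset.univ_inter, Finset.sum_const, E.card_normG]
    norm_num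
  show (Nat.card E.six.range : ℂ)⁻¹ * ∑ x, F x = 3
  rw [E.card_six]
  push_cast
  linear_combination h2 / 12

theorem Emb.theta_apply_one : E.theta 1 = 0 := by
  rw [Emb.theta, Char.indFun_apply_one]
  simp [phi, sixChar]

theorem Emb.theta_t (hs : E.SmallC) : E.theta E.t = 0 := by
  show Cfsg.indFun E.six.range E.phiH E.t = 0
  rw [Char.indFun_apply, Finset.sum_eq_zero fun x _ => ?_, mul_zero]
  by_cases hmem : x⁻¹ * E.t * x ∈ E.six.range
  · obtain ⟨g', hg'⟩ := hmem
    rw [← hg', E.ext_six]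
    refine phi_eq_zero fun hne => ?_
    have hsq : E.six g' * E.six g' = 1 := by
      rw [hg', show x⁻¹ * E.t * x * (x⁻¹ * E.t * x) = x⁻¹ * (E.t * E.t) * x by group, E.t_mul_self]
      group
    exact (card_reflSet g' hne).2 (E.inj (by rw [map_mul, map_one]; exact hsq))
  · exact Char.extendByZero_of_notMem _ _ hmem

theorem Emb.inner_theta (χ : G → ℂ) (hχ : Cfsg.IsClassFunction G χ) :
    Cfsg.classInner E.theta χ = (6 : ℂ)⁻¹ * ∑ g : Six, phi g * conj (χ (E.six g)) := by
  classical
  show Cfsg.classInner (Cfsg.indFun E.six.range E.phiH) χ = _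
  rw [Char.classInner_indFun _ _ _ hχ, Cfsg.classInner, E.card_six]
  push_cast
  congr 1
  exact (Fintype.sum_equiv (MonoidHom.ofInjective E.six_injective).toEquiv _ _ fun g => by
    show phi g * conj (χ (E.six g)) = E.phiH (MonoidHom.ofInjective E.six_injective g) * _
    rw [E.phiH_apply]
    rfl).symm

theorem Emb.isGeneralized_theta : Cfsg.IsGeneralizedCharacter G E.theta := by
  refine Char.IsGeneralizedCharacter.indFun _ ?_
  exact ⟨_, _, Char.IsIrrCharacter.isCharacter (Char.isIrrCharacter_principal (G := E.six.range)),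
    Char.IsIrrCharacter.isCharacter
      (Char.isIrrCharacter_linear (sixChar.comp (MonoidHom.ofInjective E.six_injective).symm.toMonoidHom)),
    rfl⟩

theorem Emb.norm_theta (hs : E.SmallC) : Cfsg.classInner E.theta E.theta = 3 := by
  rw [E.inner_theta E.theta (Char.isClassFunction_indFun _ _)]
  have h : ∀ g : Six, phi g * conj (E.theta (E.six g)) = 3 * phi g := by
    intro g
    by_cases hg : g.2 = 1
    · rw [phi_eq_zero (by simpa [IsThree] using hg), zero_mul, mul_zero]
    · rw [E.theta_six hs hg, map_ofNat, mul_comm]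
  rw [Finset.sum_congr rfl fun g _ => h g, ← Finset.mul_sum, sum_phi]
  norm_num

theorem Emb.inner_theta_one : Cfsg.classInner E.theta (fun _ => 1) = 1 := by
  rw [E.inner_theta _ (fun _ _ => rfl)]
  simp only [map_one, mul_one]
  rw [sum_phi]
  norm_num

end Group

end CfsgLib.J1Recog
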