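import Cfsg.Agent.Lib.Sporadic.J1.Recog.Cases
import Cfsg.Agent.Lib.Sporadic.J1.InvCentralizer
import Cfsg.Agent.Lib.Sporadic.J1.Simple

/-!
# Overgroups of the involution centraliser
-/

set_option autoImplicit false
set_option maxRecDepth 8000

namespace CfsgLib.J1Recog

open Subgroup

universe u

section Over

variable {G : Type u} [Group G] [Finite G] (E : Emb G) {f : G} {H : Subgroup G}

/-- The embedding into a subgroup containing the centraliser of `t`. -/
noncomputable def Emb.restrict (hH : E.j.range ≤ H) : Emb H where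
  j := E.j.codRestrict H fun m => hH ⟨m, rfl⟩
  inj := fun a b h => E.inj (congrArg Subtype.val h)
  range_eq := by
    ext x
    rw [mem_centralizer_singleton_iff]
    constructor
    · intro h
      obtain ⟨m, hm⟩ := E.mem_range_of_commute (x := (x : G)) (congrArg Subtype.val h)
      exact ⟨m, Subtype.ext hm⟩
    · rintro ⟨m, rfl⟩
      exact Subtype.ext (E.t_commute m).symm
  not_sixteen := fun h => E.not_sixteen (h.trans (card_subgroup_dvd_card H))

omit [Finite G] in
theorem IsAmal.restrict' (hH : E.j.range ≤ H) (hA : IsAmal E.j f) (hf : f ∈ H) :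
    IsAmal (E.j.codRestrict H fun m => hH ⟨m, rfl⟩) ⟨f, hf⟩ :=
  ⟨Subtype.ext hA.pow_seven, Subtype.ext hA.c_f, Subtype.ext hA.f_t, Subtype.ext hA.f_v, Subtype.ext hA.f_v2⟩

theorem Emb.conj_in (hA : IsAmal E.j f) (hH : E.j.range ≤ H) (hf : f ∈ H) {z : G} (hz : z ∈ H) (hz1 : z ≠ 1)
    (hz2 : z * z = 1) : ∃ h ∈ H, h * E.t * h⁻¹ = z := by
  have h := ((E.restrict hH).isConj_t_iff (f := ⟨f, hf⟩) (IsAmal.restrict' E hH hA hf) (z := ⟨z, hz⟩)).mpr
    ⟨fun e => hz1 (congrArg Subtype.val e), Subtype.ext hz2⟩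
  obtain ⟨c, hc⟩ := isConj_iff.mp h
  exact ⟨c, c.2, congrArg Subtype.val hc⟩

/-- An element moving an involution of the subgroup into the subgroup lies in it. -/
theorem Emb.mem_of_conj (hA : IsAmal E.j f) (hH : E.j.range ≤ H) (hf : f ∈ H) {z g : G} (hz : z ∈ H)
    (hz1 : z ≠ 1) (hz2 : z * z = 1) (hg : g⁻¹ * z * g ∈ H) : g ∈ H := by
  obtain ⟨h, hh, he⟩ := E.conj_in hA hH hf hz hz1 hz2
  have hne : g⁻¹ * z * g ≠ 1 := fun e => hz1 (by
    calc z = g * (g⁻¹ * z * g) * g⁻¹ := by group
      _ = 1 := by rw [e]; group)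
  obtain ⟨k, hk, hke⟩ := E.conj_in hA hH hf hg hne (by
    rw [show g⁻¹ * z * g * (g⁻¹ * z * g) = g⁻¹ * (z * z) * g by group, hz2]; group)
  have hc : h⁻¹ * g * k ∈ H := hH (E.mem_range_of_commute (by
    calc h⁻¹ * g * k * E.t = h⁻¹ * g * (k * E.t * k⁻¹) * k := by group
      _ = h⁻¹ * z * g * k := by rw [hke]; group
      _ = h⁻¹ * (h * E.t * h⁻¹) * g * k := by rw [he]
      _ = E.t * (h⁻¹ * g * k) := by group))
  have := mul_mem (mul_mem hh hc) (inv_mem hk)
  rwa [show h * (h⁻¹ * g * k) * k⁻¹ = g by group] at this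

/-- The index is congruent to 1 modulo 8. -/
theorem Emb.index_mod_eight (hA : IsAmal E.j f) (hH : E.j.range ≤ H) (hf : f ∈ H) : H.index % 8 = 1 := by
  classical
  have hS : ∀ z : E.sylow, (z : G) ∈ H := by
    rintro ⟨-, k, rfl⟩
    exact hH ⟨sOf k, rfl⟩
  set b : G ⧸ H := ((1 : G) : G ⧸ H) with hb
  have hbase : ∀ z : E.sylow, z • b = b := fun z => by
    show (((z : G) * 1 : G) : G ⧸ H) = b
    rw [mul_one, hb, QuotientGroup.eq, mul_one]
    exact inv_mem (hS z)
  have hfree : ∀ (z : E.sylow) (q : G ⧸ H), q ≠ b → z • q = q → z = 1 := by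
    intro z q
    induction q using QuotientGroup.induction_on with
    | H g =>
      intro hq hzq
      by_contra hz
      refine hq ?_
      have h1 : ((((z : G) * g : G)) : G ⧸ H) = (g : G ⧸ H) := hzq
      rw [QuotientGroup.eq] at h1
      have hz2 : (z : G) * z = 1 := E.sq_eq_one_of_mem z.2
      have hg : g ∈ H := E.mem_of_conj hA hH hf (hS z) (fun e => hz (Subtype.ext e)) hz2
        (by rwa [mul_inv_rev, inv_eq_of_mul_eq_one_right hz2] at h1)
      rw [hb, QuotientGroup.eq, mul_one]
      exact inv_mem hg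
  haveI : Fintype (MulAction.orbitRel.Quotient E.sylow (G ⧸ H)) := Fintype.ofFinite _
  have hcard : H.index = ∑ ω : MulAction.orbitRel.Quotient E.sylow (G ⧸ H),
      Nat.card (MulAction.orbit E.sylow ω.out) := by
    rw [Subgroup.index, Nat.card_congr (MulAction.selfEquivSigmaOrbits E.sylow (G ⧸ H)), Nat.card_sigma]
  set ω₀ : MulAction.orbitRel.Quotient E.sylow (G ⧸ H) := Quotient.mk'' b with hω₀
  have hout : ω₀.out = b := by
    obtain ⟨z, hz⟩ : ω₀.out ∈ MulAction.orbit E.sylow b :=
      MulAction.orbitRel_apply.mp (Quotient.mk_out (s := MulAction.orbitRel E.sylow (G ⧸ H)) b)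
    exact hz.symm.trans (hbase z)
  have h0 : Nat.card (MulAction.orbit E.sylow ω₀.out) = 1 := by
    rw [hout, Nat.card_eq_one_iff_exists]
    exact ⟨⟨b, MulAction.mem_orbit_self b⟩, fun ⟨y, z, hz⟩ => Subtype.ext (hz.symm.trans (hbase z))⟩
  have h8 : ∀ ω ∈ Finset.univ.erase ω₀, Nat.card (MulAction.orbit E.sylow ω.out) = 8 := by
    intro ω hω
    have hne : ω.out ≠ b := fun e => (Finset.ne_of_mem_erase hω) (by
      rw [hω₀, ← e]; exact (Quotient.out_eq' ω).symm)
    have hbot : MulAction.stabilizer E.sylow ω.out = ⊥ := by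
      rw [eq_bot_iff]
      exact fun z hz => hfree z _ hne hz
    rw [Nat.card_coe_set_eq, ← MulAction.index_stabilizer, hbot, Subgroup.index_bot, E.card_sylow]
  rw [hcard, ← Finset.add_sum_erase _ _ (Finset.mem_univ ω₀), h0, Finset.sum_congr rfl h8, Finset.sum_const,
    smul_eq_mul]
  omega

/-- A subgroup containing the centraliser of `t` has at least 31 · 120 elements. -/
theorem Emb.le_card (hA : IsAmal E.j f) (hH : E.j.range ≤ H) (hf : f ∈ H) : 31 * 120 ≤ Nat.card H := by
  classical
  have h1 := Char.card_isConj_mul_card_centralizer (E.restrict hH).t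
  rw [(E.restrict hH).card_centralizer] at h1
  rw [← h1]
  refine Nat.mul_le_mul_right _ ?_
  have hi : ∀ {z : H}, IsConj (E.restrict hH).t z ↔ z ≠ 1 ∧ z * z = 1 :=
    (E.restrict hH).isConj_t_iff (f := ⟨f, hf⟩) (IsAmal.restrict' E hH hA hf)
  have hM : Fintype.card {m : M // m ≠ 1 ∧ m * m = 1} = 31 := by decide +kernel
  rw [← hM, ← Nat.card_eq_fintype_card]
  refine Nat.card_le_card_of_injective (fun m => ⟨(E.restrict hH).j m.1, (hi).mpr ⟨fun e => m.2.1 ?_, ?_⟩⟩) ?_
  · exact (E.restrict hH).inj (e.trans (map_one _).symm)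
  · rw [← map_mul, m.2.2, map_one]
  · intro a b h
    exact Subtype.ext ((E.restrict hH).inj (congrArg Subtype.val h))

end Over

/-- An embedding from the hypotheses of the recognition theorems. -/
theorem exists_emb {G : Type u} [Group G] [Finite G] (t : G) (ht : orderOf t = 2)
    (h16 : ¬ 16 ∣ Nat.card G)
    (e : centralizer ({t} : Set G) ≃* Multiplicative (ZMod 2) × alternatingGroup (Fin 5)) :
    ∃ _ : Emb G, True := by
  let t' : centralizer ({t} : Set G) := ⟨t, mem_centralizer_singleton_iff.mpr rfl⟩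
  have hc : ∀ m : M, e t' * m = m * e t' := by
    intro m
    obtain ⟨x, rfl⟩ := e.surjective m
    rw [← map_mul, ← map_mul]
    congr 1
    exact Subtype.ext (mem_centralizer_singleton_iff.mp x.2).symm
  have hne : e t' ≠ 1 := fun h => by
    rw [MulEquiv.map_eq_one_iff] at h
    have := congrArg Subtype.val h
    simp only [t', OneMemClass.coe_one] at this
    rw [this, orderOf_one] at ht
    norm_num at ht
  have key : ∀ m : M, m * lc = lc * m → m * ld = ld * m → m = 1 ∨ m = lt := by decide +kernel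
  have hlt : e t' = lt := (key _ (hc lc) (hc ld)).resolve_left hne
  let j : M →* G := (centralizer ({t} : Set G)).subtype.comp e.symm.toMonoidHom
  have hjt : j lt = t := by
    show ((e.symm lt : centralizer ({t} : Set G)) : G) = t
    rw [← hlt, e.symm_apply_apply]
  refine ⟨⟨j, Subtype.val_injective.comp e.symm.injective, ?_, h16⟩, trivial⟩
  rw [hjt]
  ext x
  constructor
  · intro hx
    exact ⟨e ⟨x, hx⟩, by show ((e.symm (e ⟨x, hx⟩) : centralizer ({t} : Set G)) : G) = x; rw [e.symm_apply_apply]⟩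
  · rintro ⟨m, rfl⟩
    exact (e.symm m).2

section Model

/-- Every group of order 175560 with this involution centraliser has the same overgroups. -/
theorem Emb.span_eq_top {G : Type u} [Group G] [Finite G] (E : Emb G) {f : G} (hA : IsAmal E.j f)
    (hn : Nat.card G = 175560) : span E.j f = ⊤ := by
  have hH : E.j.range ≤ span E.j f := le_sup_left
  have hf : f ∈ span E.j f := mem_sup_right (mem_zpowers f)
  have hle := E.le_card hA hH hf
  have hmod := E.index_mod_eight hA hH hf
  have h120 : 120 ∣ Nat.card (span E.j f) := by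
    refine dvd_trans ?_ (card_dvd_of_le hH)
    rw [← Nat.card_congr (MonoidHom.ofInjective E.inj).toEquiv, Nat.card_eq_fintype_card, card_M]
  have h7 : 7 ∣ Nat.card (span E.j f) := by
    haveI : Fact (Nat.Prime 7) := ⟨by norm_num⟩
    have h := orderOf_dvd_natCard (⟨f, hf⟩ : span E.j f)
    rwa [orderOf_mk, orderOf_eq_prime hA.pow_seven (E.f_ne_one hA)] at h
  obtain ⟨q, hq⟩ := Nat.Coprime.mul_dvd_of_dvd_of_dvd (show Nat.Coprime 120 7 by norm_num) h120 h7
  have hci := (span E.j f).card_mul_index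
  rw [hn, hq, mul_assoc] at hci
  have h209 : q * (span E.j f).index = 11 * 19 := by omega
  apply Subgroup.index_eq_one.mp
  have hd : (span E.j f).index ∣ 209 := ⟨q, by rw [mul_comm, h209]⟩
  have : (span E.j f).index ∈ Nat.divisors 209 := Nat.mem_divisors.mpr ⟨hd, by norm_num⟩
  rw [show Nat.divisors 209 = {1, 11, 19, 209} by decide +kernel] at this
  simp only [Finset.mem_insert, Finset.mem_singleton] at this
  rcases this with h | h | h | h
  · exact h
  · omega
  · omega
  · exfalso
    rw [h] at h209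
    omega

/-- An element of order 15 shows that the centraliser of its part of order `p` is not inside `2 × A₅`. -/
theorem Emb.not_small {G : Type u} [Group G] [Finite G] (E : Emb G) (p : ℕ) [Fact p.Prime]
    (hp : ¬ p ^ 2 ∣ Nat.card G) {z : M} (hz : orderOf z = p) {g : G} (hg : orderOf g = 15) (hdvd : p ∣ 15) :
    ¬ ∀ x : G, x * E.j z = E.j z * x → x ∈ E.j.range := by
  intro h
  obtain ⟨c, hc, -⟩ := J1.exists_conj_commute p hp (y := E.j z) (g := g)
    (by rw [orderOf_injective _ E.inj, hz]) (hg.symm ▸ hdvd)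
  obtain ⟨m, hm⟩ := h _ hc.symm.eq
  have h15 : orderOf m = 15 := by rw [← orderOf_injective _ E.inj, hm, MulEquiv.orderOf_eq, hg]
  have key : ∀ m : M, m ^ 15 = 1 → m ^ 3 = 1 ∨ m ^ 5 = 1 := by decide +kernel
  rcases key m (by rw [← h15]; exact pow_orderOf_eq_one m) with e | e <;>
    · have := orderOf_dvd_of_pow_eq_one e
      rw [h15] at this
      norm_num at this

/-- The model satisfies both relations. -/
theorem exists_model : ∃ (E : Emb Cfsg.Spor.J1) (f : Cfsg.Spor.J1),
    IsAmal E.j f ∧ RelC E.j f ∧ RelD E.j f ∧ span E.j f = ⊤ := by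
  obtain ⟨t, ht, ⟨e⟩⟩ := J1.involution_centralizer
  haveI := J1.isSimpleGroup
  have hperf : commutator Cfsg.Spor.J1 = ⊤ := by
    rcases Subgroup.Normal.eq_bot_or_eq_top (H := commutator Cfsg.Spor.J1) inferInstance with h | h
    · exfalso
      rw [commutator_eq_bot_iff_center_eq_top] at h
      have hc := J1.card_C15
      rw [show centralizer ({J1.el J1.w15} : Set Cfsg.Spor.J1) = ⊤ by
        rw [eq_top_iff]
        exact fun x _ => mem_centralizer_singleton_iff.mpr
          ((mem_center_iff.mp (h ▸ mem_top x) (J1.el J1.w15)).symm), Subgroup.card_top, J1.card_J1] at hc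
      norm_num at hc
    · exact h
  obtain ⟨E, -⟩ := exists_emb t ht (J1.ndvd (by norm_num)) e
  obtain ⟨E', f, hA⟩ := E.exists_amal (index_ne_two_of_perfect hperf)
  refine ⟨E', f, hA, ?_, ?_, E'.span_eq_top hA J1.card_J1⟩
  · haveI : Fact (Nat.Prime 3) := ⟨Nat.prime_three⟩
    exact (E'.relC_or_small hA).resolve_right (E'.not_small 3 (J1.ndvd (by norm_num))
      (orderOf_eq_prime (by decide +kernel) (by decide +kernel)) J1.orderOf_w15 (by norm_num))
  · haveI : Fact (Nat.Prime 5) := ⟨by norm_num⟩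
    exact (E'.relD_or_small hA).resolve_right (E'.not_small 5 (J1.ndvd (by norm_num))
      (orderOf_eq_prime (by decide +kernel) (by decide +kernel)) J1.orderOf_w15 (by norm_num))

end Model

end CfsgLib.J1Recog
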